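import Groth.Agent.Lib.BCFlat25.Nat
import Groth.Agent.Lib.RpushPerf25.PerfTensor
import Groth.Agent.Lib.GenFlatBC9.TensorSec
import Groth.Agent.Lib.TorBC25.Affine

/-! # Base change of twists, affine over an affine base -/

set_option autoImplicit false
set_option maxHeartbeats 1000000
set_option linter.style.haveILetI false
universe u

open CategoryTheory CategoryTheory.Limits AlgebraicGeometry HomologicalComplex
open Scheme.Modules (pushforward pushforwardComp pushforwardCongr pullbackPushforwardAdjunction)

attribute [local instance] HasDerivedCategory.standard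

noncomputable section

namespace GrothLib.BCFlat25

open GrothLib.OX GrothLib.TorBC25 GrothLib.RelAmp22

variable {X X' S S' : Scheme.{u}} {f : X ⟶ S} {g : S' ⟶ S} {f' : X' ⟶ S'} {g' : X' ⟶ X}
  (h : IsPullback g' f' f g) (n : ℤ)

/-- Pullback of a module placed in a degree. -/
abbrev pSingle (g : X' ⟶ X) (N : X.Modules) :
    (pullCxF g).obj ((single X.Modules (ComplexShape.up ℤ) n).obj N) ≅
      (single X'.Modules (ComplexShape.up ℤ) n).obj ((Scheme.Modules.pullback g).obj N) :=
  (singleMapHomologicalComplex (Scheme.Modules.pullback g) (ComplexShape.up ℤ) n).app N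

theorem unit_aux {A B : Type*} [Category A] [Category B] {F : A ⥤ B} {G : B ⥤ A} (ad : F ⊣ G) {a₀ a₁ : A} {b₀ : B}
    (a : a₀ ⟶ a₁) (b : F.obj a₁ ⟶ b₀) :
    ad.unit.app a₀ ≫ G.map (F.map a ≫ b) = a ≫ ad.unit.app a₁ ≫ G.map b := by simp

theorem uTo_single (N : X.Modules) :
    uTo g' ((single X.Modules (ComplexShape.up ℤ) n).obj N) ≫ (RR g').map ((qD X').map (pSingle n g' N).hom) =
      (sD n X).map ((pullbackPushforwardAdjunction g').unit.app N) ≫ tau n g' ((Scheme.Modules.pullback g').obj N) := by
  have h1 : uU g' ((pullCxF g').obj ((single X.Modules (ComplexShape.up ℤ) n).obj N)) ≫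
      (RR g').map ((qD X').map (pSingle n g' N).hom) =
      (qD X).map ((pushCxF g').map (pSingle n g' N).hom) ≫ uU g' _ := (uU_naturality g' (pSingle n g' N).hom).symm
  have h2 : cxUnit g' ((single X.Modules (ComplexShape.up ℤ) n).obj N) ≫ (pushCxF g').map (pSingle n g' N).hom =
      (single X.Modules (ComplexShape.up ℤ) n).map ((pullbackPushforwardAdjunction g').unit.app N) ≫
        (pushSingleIso n g' ((Scheme.Modules.pullback g').obj N)).inv := by
    refine HomologicalComplex.from_single_hom_ext ?_
    simp [cxUnit, pushSingleIso, singleMapHomologicalComplex_inv_app_self, singleMapHomologicalComplex_hom_app_self,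
      HomologicalComplex.single_map_f_self]
    exact unit_aux (pullbackPushforwardAdjunction g') _ _
  rw [uTo, Category.assoc, h1, ← Category.assoc, ← Functor.map_comp, h2, Functor.map_comp, Category.assoc]
  rfl

/-- **Base change for a module, without resolving it on the source.** -/
theorem isIso_psi_module [DCoh.HasLpull g] (adjg : DCoh.Lpull g ⊣ RR g) (N : X.Modules)
    (h1 : IsIso (tau n f N)) (h2 : IsIso (lam n g ((pushforward f).obj N)))
    (h4 : IsIso (tau n f' ((Scheme.Modules.pullback g').obj N)))
    (h6 : IsIso (tau n g ((Scheme.Modules.pullback g).obj ((pushforward f).obj N))))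
    (h7 : IsIso (tau n g ((pushforward f').obj ((Scheme.Modules.pullback g').obj N))))
    (hbc : IsIso (AffBC.bcMap h N)) :
    IsIso (psi h adjg ((single X.Modules (ComplexShape.up ℤ) n).obj N)) := by
  let P := (Scheme.Modules.pullback g').obj N
  let M := (pushforward f).obj N
  obtain ⟨a, ha, hkey⟩ := exists_twist n g adjg h2 h6
  let x := inv a ≫ AffBC.bcMap h N
  haveI : IsIso x := inferInstance
  haveI : IsIso ((sD n S').map x) := inferInstance
  let c := (RR f').map ((qD X').map (pSingle n g' N).hom)
  suffices hθ : (DCoh.Lpull g).map (tau n f N) ≫ psi h adjg ((single X.Modules (ComplexShape.up ℤ) n).obj N) ≫ c =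
      lam n g M ≫ (sD n S').map x ≫ tau n f' P by
    haveI h8 : IsIso ((DCoh.Lpull g).map (tau n f N)) := inferInstance
    haveI h9 : IsIso c := inferInstanceAs (IsIso ((RR f').map _))
    haveI h10 : IsIso (lam n g M ≫ (sD n S').map x ≫ tau n f' P) := inferInstance
    haveI h11 := IsIso.of_isIso_fac_left (f := (DCoh.Lpull g).map (tau n f N)) (h := lam n g M ≫ (sD n S').map x ≫ tau n f' P) hθ
    exact IsIso.of_isIso_comp_right _ c
  apply (adjg.homEquiv _ _).injective
  rw [Adjunction.homEquiv_naturality_left, Adjunction.homEquiv_naturality_right,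
    show adjg.homEquiv ((RR f).obj ((sD n X).obj N)) _ (psi h adjg ((single X.Modules (ComplexShape.up ℤ) n).obj N)) = (RR f).map (uTo g' _) ≫ sqA h _ from
      homEquiv_psi h adjg _,
    ← Category.assoc (lam n g M), Adjunction.homEquiv_naturality_right, ← map_adjMap n g adjg h7 x,
    ← hkey h7 x, IsIso.hom_inv_id_assoc, AffBC.bcMap, Equiv.apply_symm_apply]
  have e1 : (RR f).map ((RR g').map ((qD X').map (pSingle n g' N).hom)) ≫ sqA h ((sD n X').obj P) =
      sqA h _ ≫ (RR g).map c :=
    app2_natural (RRSquareIso h) ((qD X').map (pSingle n g' N).hom)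
  have hs : tau n f ((pushforward g').obj P) ≫ (RR f).map (tau n g' P) ≫ sqA h ((sD n X').obj P) =
      (sD n S).map ((pushforwardComp g' f).hom.app P ≫ (pushforwardCongr h.w).hom.app P ≫
          (pushforwardComp f' g).inv.app P) ≫
        tau n g ((pushforward f').obj P) ≫ (RR g).map (tau n f' P) := tau_square n h P
  rw [Category.assoc ((RR f).map _), ← e1, ← Category.assoc ((RR f).map _), ← Functor.map_comp, uTo_single, Functor.map_comp,
    Category.assoc, ← Category.assoc (tau n f N), ← tau_naturality, Category.assoc]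
  refine Eq.trans (congrArg ((sD n S).map ((pushforward f).map ((pullbackPushforwardAdjunction g').unit.app N)) ≫ ·) hs) ?_
  refine ((Category.assoc _ _ _).symm.trans ((congrArg (· ≫ _) ((sD n S).map_comp _ _).symm).trans ?_))
  simp only [AffBC.bcV, Category.assoc]
  rfl

variable {L : DCoh.D S ⥤ DCoh.D S'} (adj : L ⊣ RR g)

/-- Base change for a relatively flat module over affine bases. -/
theorem isIso_psi_single_affine [IsAffineHom f] [IsAffineHom g] (N : X.Modules) [N.IsQuasicoherent]
    (hN : FlatMod.IsFlatOver f N) : IsIso (psi h adj ((single X.Modules (ComplexShape.up ℤ) n).obj N)) := by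
  obtain ⟨_, ⟨a⟩⟩ := exists_adjRR g
  refine (isIso_psi_adj_iff h adj a _).2 ?_
  haveI : IsAffineHom f' := MorphismProperty.of_isPullback h ‹IsAffineHom f›
  haveI := FittSheaf.isQuasicoherent_pullback g' N
  haveI := QCoh.isQuasicoherent_pushforward f N
  haveI := FittSheaf.isQuasicoherent_pullback g ((pushforward f).obj N)
  haveI := QCoh.isQuasicoherent_pushforward f' ((Scheme.Modules.pullback g').obj N)
  exact isIso_psi_module h n a N (isIso_tau_affine n f N) (isIso_lam n g _ (isFlat_pushforward_affine f N hN))
    (isIso_tau_affine n f' _) (isIso_tau_affine n g _) (isIso_tau_affine n g _) (AffBC.isIso_bcMap h N)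

theorem flatOver_iso {M M' : X.Modules} (e : M ≅ M') (hM : FlatMod.IsFlatOver f M) : FlatMod.IsFlatOver f M' :=
  fun x => (flatOver_iff_relStalk f M' x).2 (flat_of_modIso ((relStalk f x).mapIso e) ((flatOver_iff_relStalk f M x).1 (hM x)))

/-- The twist of a module placed in a degree. -/
def tSingle (G M : X.Modules) :
    (tensorModCx G).obj ((single X.Modules (ComplexShape.up ℤ) n).obj M) ≅
      (single X.Modules (ComplexShape.up ℤ) n).obj ((tG G).obj M) :=
  (singleMapHomologicalComplex (tG G) (ComplexShape.up ℤ) n).app M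

/-- **Perfect objects are good**, over affine bases. -/
theorem good_of_isPerfect [IsAffine X] [IsAffine S] [IsAffineHom g] (G : X.Modules) [G.IsQuasicoherent]
    (hG : FlatMod.IsFlatOver f G) {E : DCoh.D X} (hE : DCoh.IsPerfect E) : Good G h adj E := by
  refine TorBC25.prop_of_isPerfect (thick_good G h adj) (fun A j hj k m => ?_) hE
  haveI : IsAffineHom j := isAffineHom_of_isAffine _
  haveI : IsAffineHom f := isAffineHom_of_isAffine _
  let O := Coh.structureModule (Spec A)
  haveI : O.IsQuasicoherent := WeakAss.isQuasicoherent_structureModule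
  let M := (pushforward j).obj O
  haveI : M.IsQuasicoherent := QCoh.isQuasicoherent_pushforward j O
  have hM : FlatMod.IsFlat M := isFlat_pushforward_affine j O (Seesaw26.isFlatOver_structure _)
  haveI : IsIso (tau k j O) := isIso_tau_affine k j _
  let e : ((RR j).obj ((sD k (Spec A)).obj ((genF (Spec A)).obj ⊤)))⟦m⟧ ≅ (sD (k - m) X).obj M :=
    (shiftFunctor _ m).mapIso ((RR j).mapIso ((sD k _).mapIso (genTopIso (Spec A))) ≪≫
      (asIso (tau k j O)).symm ≪≫ (sDIso k X).symm.app _) ≪≫
    ((DerivedCategory.singleFunctors X.Modules).shiftIso m (k - m) k (by omega)).app _ ≪≫ (sDIso (k - m) X).app _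
  refine (NatTrans.isIso_app_iff_of_iso (Phi G h adj) e).2 ?_
  let P := (single X.Modules (ComplexShape.up ℤ) (k - m)).obj M
  refine (isIso_Phi_iff G h adj P (isKFlat_single M hM (k - m))).2 ?_
  refine (isIso_psi_iff_of_iso h adj (tSingle (k - m) G M).hom).2 ?_
  haveI : ((tG G).obj M).IsQuasicoherent := GenFlatBC9.isQuasicoherent_tens M G
  exact isIso_psi_single_affine h (k - m) adj _ (fun x => RpushPerf25.flatOverAt_tensor f hM hG x)

end GrothLib.BCFlat25
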