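import Groth.Agent.Lib.OX.Adjunction
import Groth.Agent.Lib.SiteDer.RlimMap
import Mathlib.CategoryTheory.Triangulated.Adjunction
import Groth.Agent.Lib.HoCat.DerivedCoproduct

/-! # Left derived functors of left adjoints on modules -/

set_option autoImplicit false
set_option maxHeartbeats 1000000
set_option linter.style.haveILetI false
universe u

open CategoryTheory CategoryTheory.Limits AlgebraicGeometry HomologicalComplex

attribute [local instance] HasDerivedCategory.standard

noncomputable section

namespace GrothLib.BCFlat25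

open GrothLib.OX

variable {X Y : Scheme.{u}} {F : Y.Modules ⥤ X.Modules} {G : X.Modules ⥤ Y.Modules} [F.Additive] [G.Additive]
  [(F.mapHomotopyCategory (ComplexShape.up ℤ) ⋙ DerivedCategory.Qh).HasLeftDerivedFunctor
    (HomotopyCategory.quasiIso Y.Modules (ComplexShape.up ℤ))]

/-- The left derived functor. -/
abbrev LD (F : Y.Modules ⥤ X.Modules) [F.Additive]
    [(F.mapHomotopyCategory (ComplexShape.up ℤ) ⋙ DerivedCategory.Qh).HasLeftDerivedFunctor
      (HomotopyCategory.quasiIso Y.Modules (ComplexShape.up ℤ))] : DCoh.D Y ⥤ DCoh.D X :=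
  (F.mapHomotopyCategory (ComplexShape.up ℤ) ⋙ DerivedCategory.Qh).totalLeftDerived DerivedCategory.Qh
    (HomotopyCategory.quasiIso Y.Modules (ComplexShape.up ℤ))

/-- The right derived functor. -/
abbrev RD (G : X.Modules ⥤ Y.Modules) [G.Additive] : DCoh.D X ⥤ DCoh.D Y :=
  KInj.res X.Modules ⋙ G.mapHomotopyCategory (ComplexShape.up ℤ) ⋙ DerivedCategory.Qh

/-- The derived adjunction. -/
theorem nonempty_derivedAdj (adj : F ⊣ G)
    (hF : ∀ C : CochainComplex Y.Modules ℤ, C.Acyclic → DCoh.IsKFlat C →
      ((F.mapHomologicalComplex (ComplexShape.up ℤ)).obj C).Acyclic) :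
    Nonempty (LD F ⊣ RD G) := by
  let hR := leftResolvable_of_acyclic F hF
  let Gh := G.mapHomotopyCategory (ComplexShape.up ℤ) ⋙ DerivedCategory.Qh
  haveI : Gh.HasRightDerivedFunctor (HomotopyCategory.quasiIso X.Modules (ComplexShape.up ℤ)) :=
    KInj.hasRightDerivedFunctor _
  let R := Gh.totalRightDerived DerivedCategory.Qh (HomotopyCategory.quasiIso X.Modules (ComplexShape.up ℤ))
  let adjh := KInj.mapHomotopyAdj adj
  let Fh := F.mapHomotopyCategory (ComplexShape.up ℤ) ⋙ DerivedCategory.Qh
  let α := Fh.totalLeftDerivedCounit DerivedCategory.Qh (HomotopyCategory.quasiIso Y.Modules (ComplexShape.up ℤ))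
  let β := Gh.totalRightDerivedUnit DerivedCategory.Qh (HomotopyCategory.quasiIso X.Modules (ComplexShape.up ℤ))
  have h₁ : (LD F ⋙ R).IsLeftDerivedFunctor
      ((Functor.associator _ _ _).inv ≫ Functor.whiskerRight α R)
      (HomotopyCategory.quasiIso Y.Modules (ComplexShape.up ℤ)) :=
    (hR.postcomp R).isLeftDerivedFunctor _ _ fun Q hQ => by
      have := hR.isIso_app_of_isLeftDerivedFunctor _ α hQ
      simp only [NatTrans.comp_app, Functor.associator_inv_app, Functor.whiskerRight_app, Category.id_comp]
      infer_instance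
  let E := LD F
  let e : KInj.res X.Modules ⋙ Gh ⋙ E ≅ R ⋙ E :=
    (Functor.associator _ _ _).symm ≪≫ Functor.isoWhiskerRight (KInj.totalRightDerivedIso Gh).symm E
  have h₂ : (R ⋙ E).IsRightDerivedFunctor
      (Functor.whiskerRight β E ≫ (Functor.associator _ _ _).hom)
      (HomotopyCategory.quasiIso X.Modules (ComplexShape.up ℤ)) := by
    refine (Functor.isRightDerivedFunctor_iff_of_iso (KInj.derUnit (Gh ⋙ E)) _ _ e ?_).1 inferInstance
    ext Q
    have h := KInj.totalRightDerivedUnit_iso_hom Gh Q
    simp only [NatTrans.comp_app, Functor.whiskerLeft_app, Functor.whiskerRight_app, Functor.associator_hom_app,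
      Category.comp_id, e, Iso.trans_hom, Iso.symm_hom, Functor.associator_inv_app,
      Category.id_comp, Functor.isoWhiskerRight_hom]
    rw [show (KInj.derUnit (Gh ⋙ E)).app Q = E.map (Gh.map ((KInj.resAdj X.Modules).unit.app Q)) by
      simp [KInj.derUnit]]
    change E.map (Gh.map ((KInj.resAdj X.Modules).unit.app Q)) ≫
      E.map ((KInj.totalRightDerivedIso Gh).inv.app (DerivedCategory.Qh.obj Q)) = E.map (β.app Q)
    rw [← E.map_comp, ← h, Category.assoc, ← NatTrans.comp_app, Iso.hom_inv_id, NatTrans.id_app]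
    exact congrArg E.map (Category.comp_id _)
  exact ⟨(Adjunction.derived adjh (HomotopyCategory.quasiIso Y.Modules (ComplexShape.up ℤ))
    (HomotopyCategory.quasiIso X.Modules (ComplexShape.up ℤ)) α β).ofNatIsoRight (KInj.totalRightDerivedIso Gh)⟩

variable (G) in
instance commShift_RD : (RD G).CommShift ℤ := inferInstance

variable (G) in
instance isTriangulated_RD : (RD G).IsTriangulated := SiteDer.isTriangulated_res_map G

/-- The shift structure on a left adjoint of `RD G`. -/
abbrev ldCommShift (adj : LD F ⊣ RD G) : (LD F).CommShift ℤ := adj.leftAdjointCommShift ℤ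

theorem isTriangulated_LD (adj : LD F ⊣ RD G) : letI := ldCommShift adj; (LD F).IsTriangulated := by
  letI := ldCommShift adj
  haveI : adj.CommShift ℤ := adj.commShift_of_rightAdjoint ℤ
  exact adj.isTriangulated_leftAdjoint

end GrothLib.BCFlat25
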