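import Groth.Agent.Lib.BCFlat25.Nat
import Groth.Agent.Lib.OX.ProjQCohSigma

/-! # Direct images from opens, twists and pullbacks -/

set_option autoImplicit false
set_option maxHeartbeats 1000000
set_option linter.style.haveILetI false
universe u

open CategoryTheory CategoryTheory.Limits AlgebraicGeometry HomologicalComplex

attribute [local instance] HasDerivedCategory.standard

noncomputable section

namespace GrothLib.BCFlat25

open GrothLib.OX GrothLib.TorBC25

variable {X U : Scheme.{u}} (j : U ⟶ X) [IsOpenImmersion j]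

theorem isIso_unit_of_iso_RR {K : DCoh.D X} {F : DCoh.D U} (e : K ≅ (RR j).obj F) :
    IsIso ((resDAdj j).unit.app K) :=
  (NatTrans.isIso_app_iff_of_iso (resDAdj j).unit e).2 (isIso_unit_RR_of_factor j (𝟙 U) (Category.id_comp j) F)

theorem isIso_uTo_of_Q {T : CochainComplex X.Modules ℤ} {F : DCoh.D U}
    (e : DerivedCategory.Q.obj T ≅ (RR j).obj F) : IsIso (uTo j T) :=
  (isIso_uTo_iff j T).2 (isIso_unit_of_iso_RR j ((DerivedCategory.quotientCompQhIso X.Modules).app T ≪≫ e))

theorem isIso_uTo_of_iso {T T' : CochainComplex X.Modules ℤ} (a : T ≅ T') (h : IsIso (uTo j T)) : IsIso (uTo j T') :=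
  (isIso_uTo_iff j T').2 ((NatTrans.isIso_app_iff_of_iso (resDAdj j).unit ((qD X).mapIso a)).1
    ((isIso_uTo_iff j T).1 h))

/-- **The twist of a direct image from a quasi-compact open is a direct image.** -/
theorem isIso_uTo_tensor [QuasiCompact j] {P : CochainComplex X.Modules ℤ} (hP : DCoh.IsKFlat P)
    (hq : DCoh.IsQCohD (DerivedCategory.Q.obj P)) (hu : IsIso (uTo j P)) {G : X.Modules} (hG : Coh.IsQCoh G) :
    IsIso (uTo j ((tensorModCx G).obj P)) := by
  let S0 := (single X.Modules (ComplexShape.up ℤ) 0).obj G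
  obtain ⟨Gc, s, hGc, -, hs, -⟩ := exists_kflat_resolution S0
  haveI := hs
  let eS : DerivedCategory.Q.obj Gc ≅ DerivedCategory.Q.obj S0 := asIso (DerivedCategory.Q.map s)
  have hGq : DCoh.IsQCohD (DerivedCategory.Q.obj Gc) := fun i => by
    refine isQCoh_of_iso ((DerivedCategory.homologyFunctor _ i).mapIso (eS ≪≫
      ((DerivedCategory.singleFunctorIsoCompQ X.Modules 0).app G).symm)).symm ?_
    by_cases hi : i = 0
    · subst hi
      exact isQCoh_of_iso ((DerivedCategory.singleFunctorCompHomologyFunctorIso X.Modules 0).app G).symm hG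
    · refine isQCoh_of_isZero ?_
      rcases lt_or_gt_of_ne hi with h' | h'
      · exact DerivedCategory.isZero_of_isGE ((DerivedCategory.singleFunctor X.Modules 0).obj G) 0 i h'
      · exact DerivedCategory.isZero_of_isLE ((DerivedCategory.singleFunctor X.Modules 0).obj G) 0 i h'
  let F := (resD j).obj (DerivedCategory.Q.obj P)
  obtain ⟨I, t, ht, hK, hI⟩ := KInj.exists_kInjective_resolution (A := U.Modules) (DerivedCategory.Q.objPreimage F)
  haveI := ht
  let eI : DerivedCategory.Q.obj I ≅ F :=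
    (asIso (DerivedCategory.Q.map t)).symm ≪≫ DerivedCategory.Q.objObjPreimageIso F
  have hA : InjK I := ⟨hI, hK⟩
  haveI := hA.kInj
  have hIq : DCoh.IsQCohD (DerivedCategory.Q.obj I) := fun i =>
    isQCoh_of_iso ((DerivedCategory.homologyFunctor _ i).mapIso eI).symm (isQCohD_resD j hq i)
  have hpu : IsIso (pushUnit j I) := map_isIso_of (DCoh.pushKh j)
    (KInj.isIso_unit_of_rightOrthogonal (CochainComplex.IsKInjective.rightOrthogonal I))
  haveI hu' : IsIso ((resDAdj j).unit.app ((qD X).obj P)) := (isIso_uTo_iff j P).1 hu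
  let eP : DerivedCategory.Q.obj ((pushCxF j).obj I) ≅ DerivedCategory.Q.obj P :=
    ((DerivedCategory.quotientCompQhIso X.Modules).app _).symm ≪≫ @asIso _ _ _ _ (pushUnit j I) hpu ≪≫
      (RR j).mapIso ((DerivedCategory.quotientCompQhIso U.Modules).app I ≪≫ eI ≪≫
        (resD j).mapIso ((DerivedCategory.quotientCompQhIso X.Modules).app P).symm) ≪≫
      (asIso ((resDAdj j).unit.app ((qD X).obj P))).symm ≪≫ (DerivedCategory.quotientCompQhIso X.Modules).app P
  haveI := hasLTensorCx Gc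
  obtain ⟨v1⟩ := ltensorCx_value_of_isKFlat Gc hGc P
  obtain ⟨v2⟩ := ltensorCx_value_of_isKFlat Gc hGc ((pushCxF j).obj I)
  haveI := quasiIso_tensor_map_of_isKFlat s P hP
  haveI hp : IsIso (projD j Gc I) := isIso_projD_of_isQCohD j I hA hIq Gc hGc hGq
  exact isIso_uTo_of_Q j (DerivedCategory.Q.mapIso (singleIso P G) ≪≫
    (asIso (DerivedCategory.Q.map (((DCoh.tensorCx (X := X)).obj P).map s))).symm ≪≫
    v1.symm ≪≫ (DCoh.LTensorCx Gc).mapIso eP.symm ≪≫ v2 ≪≫
    DerivedCategory.Q.mapIso (tensorCxSymm _ _) ≪≫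
    ((DerivedCategory.quotientCompQhIso X.Modules).app _).symm ≪≫ @asIso _ _ _ _ (projD j Gc I) hp)

variable {X' U' : Scheme.{u}} {g' : X' ⟶ X} {g'' : U' ⟶ U} {j' : U' ⟶ X'} (h₀ : IsPullback g'' j' j g')
  [IsOpenImmersion j']

include h₀ in
/-- Pullbacks of direct images from quasi-compact opens are direct images. -/
theorem isIso_uTo_pull [QuasiCompact j] {P : CochainComplex X.Modules ℤ} (hP : DCoh.IsKFlat P)
    (hq : DCoh.IsQCohD (DerivedCategory.Q.obj P)) (hu : IsIso (uTo j P)) :
    IsIso (uTo j' ((pullCxF g').obj P)) := by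
  obtain ⟨_, ⟨a⟩⟩ := exists_adjRR g'
  obtain ⟨_, ⟨a''⟩⟩ := exists_adjRR g''
  obtain ⟨v⟩ := lpull_value g' P hP
  haveI hu' : IsIso ((resDAdj j).unit.app (DerivedCategory.Q.obj P)) :=
    (NatTrans.isIso_app_iff_of_iso (resDAdj j).unit ((DerivedCategory.quotientCompQhIso X.Modules).app P)).1
      ((isIso_uTo_iff j P).1 hu)
  haveI hbc := BC_qc_open h₀ _ a _ a'' _ (isQCohD_resD j hq)
  exact isIso_uTo_of_Q j' (v.symm ≪≫ (DCoh.Lpull g').mapIso (asIso ((resDAdj j).unit.app (DerivedCategory.Q.obj P))) ≪≫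
    asIso (thA h₀ a a'' ((resD j).obj (DerivedCategory.Q.obj P))))

end GrothLib.BCFlat25
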