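import Groth.Agent.Lib.BCFlat25.Affine
import Groth.Agent.Lib.BCFlat25.Proj
import Groth.Agent.Lib.FlatDesc.Basic

/-! # Base change of twists by modules flat over the base -/

set_option autoImplicit false
set_option maxHeartbeats 1000000
set_option linter.style.haveILetI false
universe u

open CategoryTheory CategoryTheory.Limits AlgebraicGeometry HomologicalComplex

attribute [local instance] HasDerivedCategory.standard

noncomputable section

namespace GrothLib.BCFlat25

open GrothLib.OX GrothLib.TorBC25 GrothLib.RelAmp22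

variable {X X' S S' : Scheme.{u}} {f : X ⟶ S} {g : S' ⟶ S} {f' : X' ⟶ S'} {g' : X' ⟶ X}
  (h : IsPullback g' f' f g)

/-- Base change holds for the twist by `G`. -/
def BCG (G : X.Modules) : Prop :=
  ∀ (L : DCoh.D S ⥤ DCoh.D S') (adj : L ⊣ RR g) (P : CochainComplex X.Modules ℤ),
    DCoh.IsKFlat P → DCoh.IsQCohD (DerivedCategory.Q.obj P) → IsIso (psi h adj ((tensorModCx G).obj P))

theorem isQCohD_iso {Y : Scheme.{u}} {K K' : DCoh.D Y} (e : K ≅ K') (hK : DCoh.IsQCohD K) : DCoh.IsQCohD K' :=
  fun i => isQCoh_of_iso ((DerivedCategory.homologyFunctor _ i).mapIso e) (hK i)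

/-- Both schemes affine. -/
theorem bcg_affine [IsAffine X] [IsAffine S] [IsAffineHom g] (G : X.Modules) [G.IsQuasicoherent]
    (hG : FlatMod.IsFlatOver f G) : BCG h G := by
  intro L adj P hP hq
  haveI : CompactSpace X := inferInstance
  haveI : QuasiSeparatedSpace X := inferInstance
  haveI : IsAffineHom f := isAffineHom_of_isAffine _
  have hE : Good G h adj ((qD X).obj P) := prop_of_localizing (thick_good G h adj)
    (fun K hK => good_of_isPerfect h adj G hG hK) (fun J Z _ hZ hgZ => good_sigma G h adj ‹_› J Z hZ hgZ)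
    (isQCohD_iso ((DerivedCategory.quotientCompQhIso X.Modules).app P).symm hq)
  exact (isIso_Phi_iff G h adj P hP).1 (isIso_Phi_of_good G h adj hE)

/-- Relative flatness restricts to opens. -/
theorem flatOver_pullback_open {U : Scheme.{u}} (j : U ⟶ X) [IsOpenImmersion j] {G : X.Modules}
    (hG : FlatMod.IsFlatOver f G) : FlatMod.IsFlatOver (j ≫ f) ((Scheme.Modules.pullback j).obj G) := fun y => by
  obtain ⟨e⟩ := nonempty_relStalkRes f j y
  exact (flatOver_iff_relStalk _ _ y).2 (flat_of_modIso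
    ((e.app G).symm ≪≫ (relStalk (j ≫ f) y).mapIso ((Scheme.Modules.restrictFunctorIsoPullback j).app G))
    ((flatOver_iff_relStalk f G (j y)).1 (hG _)))

/-- The class at a direct image from a quasi-compact open. -/
theorem good_RR [QuasiCompact f] [QuasiSeparated f] (G : X.Modules) [G.IsQuasicoherent] {O : Scheme.{u}} (j : O ⟶ X)
    [IsOpenImmersion j] [QuasiCompact j]
    (hO : BCG ((IsPullback.of_hasPullback j g').paste_vert h) ((Scheme.Modules.pullback j).obj G))
    {L : DCoh.D S ⥤ DCoh.D S'} (adj : L ⊣ RR g) {F : DCoh.D O} (hF : DCoh.IsQCohD F) :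
    Good G h adj ((RR j).obj F) := by
  intro n
  refine isIso_app_shift_obj (Phi G h adj) (RR j) F n ?_
  let V' := Limits.pullback j g'
  let g'' : V' ⟶ O := pullback.fst j g'
  let j' : V' ⟶ X' := pullback.snd j g'
  have h₀ : IsPullback g'' j' j g' := IsPullback.of_hasPullback j g'
  haveI : IsOpenImmersion j' := inferInstanceAs (IsOpenImmersion (pullback.snd j g'))
  obtain ⟨P, hP, ⟨e⟩⟩ := exists_kflat_rep ((RR j).obj (F⟦n⟧))
  have hPq : DCoh.IsQCohD (DerivedCategory.Q.obj P) :=
    isQCohD_iso e.symm (isQCohD_Rres j _ (isQCohD_shift hF n))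
  refine (NatTrans.isIso_app_iff_of_iso (Phi G h adj)
    ((DerivedCategory.quotientCompQhIso X.Modules).app P ≪≫ e)).1 ?_
  refine (isIso_Phi_iff G h adj P hP).2 ?_
  let T := (tensorModCx G).obj P
  have u1 : IsIso (uTo j P) := isIso_uTo_of_Q j e
  have u2 : IsIso (uTo j T) := isIso_uTo_tensor j hP hPq u1 ‹_›
  haveI : QuasiCompact j' := MorphismProperty.of_isPullback h₀ ‹QuasiCompact j›
  have u3 : IsIso (uTo j' ((pullCxF g').obj T)) := by
    refine isIso_uTo_of_iso j' (tPIso g' G P).symm ?_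
    exact isIso_uTo_tensor j' (isKFlat_pullback g' hP)
      (fun i => isQCoh_of_iso (hdIso _ i).symm
        (isQCoh_homology_pullCx g' hP (fun k => isQCoh_of_iso (hdIso P k) (hPq k)) i))
      (isIso_uTo_pull j h₀ hP hPq u1) (FittSheaf.isQuasicoherent_pullback g' G)
  have u4 : IsIso (psi (h₀.paste_vert h) adj ((pullCxF j).obj T)) := by
    refine (isIso_psi_iff_of_iso _ adj (tPIso j G P).hom).2 (hO L adj _ (isKFlat_pullback j hP) ?_)
    exact fun i => isQCoh_of_iso (hdIso _ i).symm
      (isQCoh_homology_pullCx j hP (fun k => isQCoh_of_iso (hdIso P k) (hPq k)) i)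
  have hv := psi_vert h h₀ adj (h₀.paste_vert h) T
  have e1 : IsIso ((RR f').map (uTo j' ((pullCxF g').obj T) ≫ (RR j').map ((qD V').map (swapCx h₀ T))) ≫
      cA j' f' ((qD V').obj ((pullCxF g'').obj ((pullCxF j).obj T)))) := by
    haveI := u3
    infer_instance
  have e2 : IsIso (L.map ((RR f).map (uTo j T) ≫ cA j f _) ≫ psi (h₀.paste_vert h) adj ((pullCxF j).obj T)) := by
    haveI := u2
    haveI := u4
    infer_instance
  rw [hv] at e2
  exact @IsIso.of_isIso_comp_right _ _ _ _ _ _ _ e1 e2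

theorem bcg_of_mv [QuasiCompact f] [QuasiSeparated f] [CompactSpace X] [QuasiSeparatedSpace X] (G : X.Modules)
    [G.IsQuasicoherent] (U V : X.Opens) (hU : IsCompact (U : Set X)) (hV : IsCompact (V : Set X)) (hUV : U ⊔ V = ⊤)
    (hb : ∀ O : X.Opens, (O = U ∨ O = V ∨ O = U ⊓ V) →
      BCG ((IsPullback.of_hasPullback O.ι g').paste_vert h) ((Scheme.Modules.pullback O.ι).obj G)) : BCG h G := by
  intro L adj P hP hq
  have hW : IsCompact ((U ⊓ V : X.Opens) : Set X) := by
    rw [TopologicalSpace.Opens.coe_inf]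
    exact QuasiSeparatedSpace.inter_isCompact _ _ U.isOpen hU V.isOpen hV
  have key : ∀ O : X.Opens, IsCompact (O : Set X) → (O = U ∨ O = V ∨ O = U ⊓ V) →
      Good G h adj ((RR O.ι).obj ((resD O.ι).obj ((qD X).obj P))) := by
    intro O hO hmem
    haveI : QuasiCompact O.ι := QCoh.quasiCompact_ι_of_forall O fun W hW' => by
      rw [TopologicalSpace.Opens.coe_inf]
      exact QuasiSeparatedSpace.inter_isCompact _ _ W.isOpen hW'.isCompact O.isOpen hO
    exact good_RR h G O.ι (hb O hmem) adj
      (isQCohD_resD O.ι (isQCohD_iso ((DerivedCategory.quotientCompQhIso X.Modules).app P).symm hq))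
  have hE : Good G h adj ((qD X).obj P) := prop_of_mv (thick_good G h adj) U V (U ⊓ V) hUV rfl _
    (key U hU (Or.inl rfl)) (key V hV (Or.inr (Or.inl rfl))) (key _ hW (Or.inr (Or.inr rfl)))
  exact (isIso_Phi_iff G h adj P hP).1 (isIso_Phi_of_good G h adj hE)

theorem bcg_empty [IsEmpty X] [IsAffine S] [IsAffineHom g] (G : X.Modules) [G.IsQuasicoherent]
    (hG : FlatMod.IsFlatOver f G) : BCG h G := bcg_affine h G hG

/-- The two pieces and their intersection, for an induction on the number of affines. -/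
theorem cover_split {m : ℕ} {X : Scheme.{u}} (c : Fin (m + 1) → X.Opens) (hA : ∀ i, IsAffineOpen (c i))
    (hc : (⨆ i, c i) = ⊤) :
    c 0 ⊔ (⨆ i : Fin m, c i.succ) = ⊤ ∧ IsCompact ((⨆ i : Fin m, c i.succ : X.Opens) : Set X) ∧
      (∀ i : Fin m, IsAffineOpen ((⨆ k : Fin m, c k.succ : X.Opens).ι ⁻¹ᵁ c i.succ)) ∧
      (⨆ i : Fin m, (⨆ k : Fin m, c k.succ : X.Opens).ι ⁻¹ᵁ c i.succ) = ⊤ := by
  refine ⟨?_, ?_, fun i => ?_, ?_⟩
  · rw [eq_top_iff, ← hc]
    refine iSup_le fun i => ?_
    cases i using Fin.cases with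
    | zero => exact le_sup_left
    | succ i => exact le_sup_of_le_right (le_iSup (fun i : Fin m => c i.succ) i)
  · rw [TopologicalSpace.Opens.coe_iSup]
    exact isCompact_iUnion fun i => (hA i.succ).isCompact
  · exact (hA i.succ).preimage_of_isOpenImmersion _
      ((le_iSup (fun i : Fin m => c i.succ) i).trans_eq (Scheme.Opens.opensRange_ι _).symm)
  · rw [← Scheme.Hom.preimage_iSup, Scheme.Opens.ι_preimage_self]

theorem bcg_sep [IsAffine S] [IsAffineHom g] : ∀ (m : ℕ) {X X' : Scheme.{u}} {f : X ⟶ S} {f' : X' ⟶ S'}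
    {g' : X' ⟶ X} (h : IsPullback g' f' f g) [X.IsSeparated] [QuasiCompact f] [QuasiSeparated f] (G : X.Modules)
    [G.IsQuasicoherent] (_ : FlatMod.IsFlatOver f G) (c : Fin m → X.Opens),
    (∀ i, IsAffineOpen (c i)) → (⨆ i, c i) = ⊤ → BCG h G
  | 0, X, _, f, _, _, h, _, _, _, G, _, hG, c, _, hc => by
    have : IsEmpty X := ⟨fun x => by
      have hx : x ∈ ((⊤ : X.Opens) : Set X) := trivial
      rw [← hc, iSup_of_empty] at hx
      exact hx⟩
    exact bcg_empty h G hG
  | m + 1, X, X', f, f', g', h, _, _, _, G, _, hG, c, hA, hc => by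
    haveI : CompactSpace X := QuasiCompact.compactSpace_of_compactSpace f
    haveI : QuasiSeparatedSpace X := quasiSeparatedSpace_of_quasiSeparated f
    obtain ⟨hcov, hBc, hBA, hBtop⟩ := cover_split c hA hc
    refine bcg_of_mv h G (c 0) (⨆ i : Fin m, c i.succ) (hA 0).isCompact hBc hcov ?_
    intro O hO
    haveI : QuasiCompact O.ι := QCoh.quasiCompact_ι_of_forall O fun W hW => by
      rw [TopologicalSpace.Opens.coe_inf]
      refine QuasiSeparatedSpace.inter_isCompact _ _ W.isOpen hW.isCompact O.isOpen ?_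
      rcases hO with rfl | rfl | rfl
      · exact (hA 0).isCompact
      · exact hBc
      · rw [TopologicalSpace.Opens.coe_inf]
        exact QuasiSeparatedSpace.inter_isCompact _ _ (c 0).isOpen (hA 0).isCompact (⨆ i : Fin m, c i.succ).isOpen hBc
    haveI : (O : Scheme.{u}).IsSeparated := ⟨by rw [← terminal.comp_from O.ι]; infer_instance⟩
    haveI : ((Scheme.Modules.pullback O.ι).obj G).IsQuasicoherent := FittSheaf.isQuasicoherent_pullback O.ι G
    have hG' := flatOver_pullback_open (f := f) O.ι hG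
    rcases hO with rfl | rfl | rfl
    · haveI : IsAffine (c 0 : Scheme.{u}) := hA 0
      exact bcg_affine _ _ hG'
    · exact bcg_sep m _ _ hG' _ hBA hBtop
    · refine bcg_sep m _ _ hG' (fun i => (c 0 ⊓ ⨆ k : Fin m, c k.succ).ι ⁻¹ᵁ (c 0 ⊓ c i.succ)) (fun i => ?_) ?_
      · refine ((hA 0).inf (hA i.succ)).preimage_of_isOpenImmersion _ ?_
        rw [Scheme.Opens.opensRange_ι]
        exact inf_le_inf_left _ (le_iSup (fun i : Fin m => c i.succ) i)
      · rw [← Scheme.Hom.preimage_iSup, ← inf_iSup_eq, Scheme.Opens.ι_preimage_self]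

theorem bcg_cover [IsAffine S] [IsAffineHom g] : ∀ (m : ℕ) {X X' : Scheme.{u}} {f : X ⟶ S} {f' : X' ⟶ S'}
    {g' : X' ⟶ X} (h : IsPullback g' f' f g) [QuasiCompact f] [QuasiSeparated f] (G : X.Modules)
    [G.IsQuasicoherent] (_ : FlatMod.IsFlatOver f G) (c : Fin m → X.Opens),
    (∀ i, IsAffineOpen (c i)) → (⨆ i, c i) = ⊤ → BCG h G
  | 0, X, _, f, _, _, h, _, _, G, _, hG, c, _, hc => by
    have : IsEmpty X := ⟨fun x => by
      have hx : x ∈ ((⊤ : X.Opens) : Set X) := trivial
      rw [← hc, iSup_of_empty] at hx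
      exact hx⟩
    exact bcg_empty h G hG
  | m + 1, X, X', f, f', g', h, _, _, G, _, hG, c, hA, hc => by
    haveI : CompactSpace X := QuasiCompact.compactSpace_of_compactSpace f
    haveI : QuasiSeparatedSpace X := quasiSeparatedSpace_of_quasiSeparated f
    obtain ⟨hcov, hBc, hBA, hBtop⟩ := cover_split c hA hc
    refine bcg_of_mv h G (c 0) (⨆ i : Fin m, c i.succ) (hA 0).isCompact hBc hcov ?_
    intro O hO
    haveI : QuasiCompact O.ι := QCoh.quasiCompact_ι_of_forall O fun W hW => by
      rw [TopologicalSpace.Opens.coe_inf]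
      refine QuasiSeparatedSpace.inter_isCompact _ _ W.isOpen hW.isCompact O.isOpen ?_
      rcases hO with rfl | rfl | rfl
      · exact (hA 0).isCompact
      · exact hBc
      · rw [TopologicalSpace.Opens.coe_inf]
        exact QuasiSeparatedSpace.inter_isCompact _ _ (c 0).isOpen (hA 0).isCompact (⨆ i : Fin m, c i.succ).isOpen hBc
    haveI : ((Scheme.Modules.pullback O.ι).obj G).IsQuasicoherent := FittSheaf.isQuasicoherent_pullback O.ι G
    have hG' := flatOver_pullback_open (f := f) O.ι hG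
    rcases hO with rfl | rfl | rfl
    · haveI : IsAffine (c 0 : Scheme.{u}) := hA 0
      exact bcg_affine _ _ hG'
    · exact bcg_cover m _ _ hG' _ hBA hBtop
    · haveI : IsAffine (c 0 : Scheme.{u}) := hA 0
      let W : X.Opens := c 0 ⊓ ⨆ k : Fin m, c k.succ
      haveI : (W : Scheme.{u}).IsSeparated :=
        ⟨by rw [← terminal.comp_from (X.homOfLE (inf_le_left : W ≤ c 0))]; infer_instance⟩
      haveI : QuasiCompact (W.ι ≫ f) := inferInstance
      haveI : CompactSpace (W : Scheme.{u}) := QuasiCompact.compactSpace_of_compactSpace (W.ι ≫ f)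
      let d := (W : Scheme.{u}).affineCover.finiteSubcover
      let e := (Fintype.equivFin d.I₀).symm
      refine bcg_sep _ _ _ hG' (fun i => (d.f (e i)).opensRange) (fun i => isAffineOpen_opensRange _) ?_
      rw [show (⨆ i, (d.f (e i)).opensRange) = ⨆ k, (d.f k).opensRange from e.iSup_comp (g := fun k => (d.f k).opensRange)]
      exact d.iSup_opensRange

/-- **Over affine bases.** -/
theorem bcg_affineBase [IsAffine S] [IsAffineHom g] [QuasiCompact f] [QuasiSeparated f] (G : X.Modules)
    [G.IsQuasicoherent] (hG : FlatMod.IsFlatOver f G) : BCG h G := by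
  haveI : CompactSpace X := QuasiCompact.compactSpace_of_compactSpace f
  let c := X.affineCover.finiteSubcover
  let e := (Fintype.equivFin c.I₀).symm
  refine bcg_cover _ h G hG (fun i => (c.f (e i)).opensRange) (fun i => isAffineOpen_opensRange _) ?_
  rw [show (⨆ i, (c.f (e i)).opensRange) = ⨆ k, (c.f k).opensRange from e.iSup_comp (g := fun k => (c.f k).opensRange)]
  exact c.iSup_opensRange

/-- **Base change for twists by modules flat over the base.** -/
theorem bcg [QuasiCompact f] [QuasiSeparated f] (G : X.Modules) [G.IsQuasicoherent]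
    (hG : FlatMod.IsFlatOver f G) : BCG h G := by
  intro L adj P hP hq
  let T := (tensorModCx G).obj P
  refine isIso_of_local_resD _ fun y => ?_
  obtain ⟨U, hU, U', hU', le, hy, hw⟩ := exists_affine_chart g y
  let i := hU.fromSpec
  let k := hU'.fromSpec
  let g₀ := Spec.map (g.appLE U U' le)
  refine ⟨_, k, inferInstance, ?_, ?_⟩
  · rw [hU'.range_fromSpec]; exact hy
  let fU := pullback.snd f i
  let iX := pullback.fst f i
  have hUsq : IsPullback iX fU f i := IsPullback.of_hasPullback f i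
  let g₀' := pullback.fst fU g₀
  let f'' := pullback.snd fU g₀
  have h0 : IsPullback g₀' f'' fU g₀ := IsPullback.of_hasPullback fU g₀
  have h4 : IsPullback (g₀' ≫ iX) f'' f (g₀ ≫ i) := h0.paste_horiz hUsq
  have hwk : (g₀' ≫ iX) ≫ f = (f'' ≫ k) ≫ g := by
    rw [h4.w, hw, Category.assoc]
  let k' : pullback fU g₀ ⟶ X' := h.lift (g₀' ≫ iX) (f'' ≫ k) hwk
  have hk1 : k' ≫ g' = g₀' ≫ iX := h.lift_fst _ _ hwk
  have hk2 : IsPullback k' f'' f' k := by
    have h4' : IsPullback (k' ≫ g') f'' f (k ≫ g) := by rw [hk1, ← hw]; exact h4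
    exact IsPullback.of_right h4' (h.lift_snd _ _ hwk) h
  have h3 : IsPullback (k' ≫ g') f'' f (k ≫ g) := hk2.paste_horiz h
  haveI : IsOpenImmersion k' := MorphismProperty.of_isPullback hk2.flip inferInstance
  haveI : IsOpenImmersion iX := MorphismProperty.of_isPullback hUsq.flip inferInstance
  haveI : QuasiCompact fU := MorphismProperty.of_isPullback hUsq ‹QuasiCompact f›
  haveI : QuasiSeparated fU := MorphismProperty.of_isPullback hUsq ‹QuasiSeparated f›
  obtain ⟨_, ⟨a⟩⟩ := exists_adjRR g₀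
  have e4 : IsIso (psi h4 (compAdj (resDAdj i) a) T) := by
    have hh := psi_horiz hUsq (resDAdj i) h0 h4 a T
    haveI := isIso_psi_open hUsq (resDAdj i) T
    haveI : ((Scheme.Modules.pullback iX).obj G).IsQuasicoherent := FittSheaf.isQuasicoherent_pullback iX G
    haveI h5 : IsIso (psi h0 a ((pullCxF iX).obj T)) :=
      (isIso_psi_iff_of_iso h0 a (tPIso iX G P).hom).2 (bcg_affineBase h0 _ (FlatDesc.isFlatOver_baseChange hUsq G hG)
        _ a _ (isKFlat_pullback iX hP) (fun q => isQCoh_of_iso (hdIso _ q).symm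
          (isQCoh_homology_pullCx iX hP (fun r => isQCoh_of_iso (hdIso P r) (hq r)) q)))
    have h6 : IsIso (psi h4 (compAdj (resDAdj i) a) T ≫
        (RR f'').map ((qD _).map (pullCxComp g₀' iX T))) := by
      rw [← hh]; infer_instance
    exact @IsIso.of_isIso_comp_right _ _ _ _ _ _ _ inferInstance h6
  have e3 : IsIso (psi h3 (compAdj adj (resDAdj k)) T) := by
    revert e4
    generalize compAdj (resDAdj i) a = b
    revert h4 b
    generalize hgi : g₀ ≫ i = gi
    generalize hgi' : g₀' ≫ iX = gi'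
    obtain rfl : gi = k ≫ g := hgi ▸ hw
    obtain rfl : gi' = k' ≫ g' := hgi' ▸ hk1.symm
    intro h4 b e4
    exact (isIso_psi_adj_iff h4 b (compAdj adj (resDAdj k)) T).1 e4
  have hh := psi_horiz h adj hk2 h3 (resDAdj k) T
  haveI := isIso_psi_open hk2 (resDAdj k) ((pullCxF g').obj T)
  have h7 : IsIso ((resD k).map (psi h adj T) ≫ psi hk2 (resDAdj k) ((pullCxF g').obj T)) := by
    rw [hh]; infer_instance
  exact @IsIso.of_isIso_comp_right _ _ _ _ _ _ _ inferInstance h7

end GrothLib.BCFlat25
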