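import Groth.Agent.Lib.BCFlat25.Psi
import Groth.Agent.Lib.BCFlat25.Derived
import Groth.Agent.Lib.OX.LTensor
import Groth.Agent.Lib.OX.PullbackTensor
import Groth.Agent.Lib.OX.QCohTensor
import Groth.Agent.Lib.SheafCoh.TensorAdj
import Groth.Agent.Lib.TorBC25.BCAffine

/-! # The base change map of a twist, as a natural transformation -/

set_option autoImplicit false
set_option maxHeartbeats 1000000
set_option linter.style.haveILetI false
universe u

open CategoryTheory CategoryTheory.Limits AlgebraicGeometry HomologicalComplex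

attribute [local instance] HasDerivedCategory.standard

noncomputable section

namespace GrothLib.BCFlat25

open GrothLib.OX GrothLib.TorBC25

variable {X X' S S' : Scheme.{u}}

/-- The twist. -/
abbrev tG (G : X.Modules) : X.Modules ⥤ X.Modules := (DCoh.tensorBi (X := X)).flip.obj G

/-- Twisting, then pulling back. -/
abbrev tP (g' : X' ⟶ X) (G : X.Modules) : X.Modules ⥤ X'.Modules := tG G ⋙ Scheme.Modules.pullback g'

theorem acyclic_tG (G : X.Modules) (C : CochainComplex X.Modules ℤ) (hC : C.Acyclic) (hK : DCoh.IsKFlat C) :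
    (((tG G).mapHomologicalComplex (ComplexShape.up ℤ)).obj C).Acyclic :=
  acyclic_tensor_module hC hK G

/-- Twist and pullback commute. -/
def tPIso (g' : X' ⟶ X) (G : X.Modules) (P : CochainComplex X.Modules ℤ) :
    (pullCxF g').obj ((tensorModCx G).obj P) ≅
      (tensorModCx ((Scheme.Modules.pullback g').obj G)).obj ((pullCxF g').obj P) :=
  HomologicalComplex.Hom.isoOfComponents (fun n => pullTensorIso g' (P.X n) G)
    fun n m _ => (pullTensorIso_natural₁ g' (P.d n m) G).symm

/-- The composite functor, on complexes. -/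
def tPCx (g' : X' ⟶ X) (G : X.Modules) (P : CochainComplex X.Modules ℤ) :
    (pullCxF g').obj ((tensorModCx G).obj P) ≅ ((tP g' G).mapHomologicalComplex (ComplexShape.up ℤ)).obj P :=
  HomologicalComplex.Hom.isoOfComponents (fun _ => Iso.refl _)
    fun _ _ _ => (Category.id_comp _).trans (Category.comp_id _).symm

theorem acyclic_tP (g' : X' ⟶ X) (G : X.Modules) (C : CochainComplex X.Modules ℤ) (hC : C.Acyclic)
    (hK : DCoh.IsKFlat C) : (((tP g' G).mapHomologicalComplex (ComplexShape.up ℤ)).obj C).Acyclic :=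
  DerCat.acyclic_of_iso ((tPIso g' G C).symm ≪≫ tPCx g' G C)
    (acyclic_tG _ _ (acyclic_pullback g' hC hK) (isKFlat_pullback g' hK))

instance hasLD_tG (G : X.Modules) : ((tG G).mapHomotopyCategory (ComplexShape.up ℤ) ⋙
    DerivedCategory.Qh).HasLeftDerivedFunctor (HomotopyCategory.quasiIso X.Modules (ComplexShape.up ℤ)) :=
  (leftResolvable_of_acyclic (tG G) (acyclic_tG G)).hasLeftDerivedFunctor

instance hasLD_tP (g' : X' ⟶ X) (G : X.Modules) : ((tP g' G).mapHomotopyCategory (ComplexShape.up ℤ) ⋙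
    DerivedCategory.Qh).HasLeftDerivedFunctor (HomotopyCategory.quasiIso X.Modules (ComplexShape.up ℤ)) :=
  (leftResolvable_of_acyclic (tP g' G) (acyclic_tP g' G)).hasLeftDerivedFunctor

theorem exists_adj_tG (G : X.Modules) :
    ∃ (H : X.Modules ⥤ X.Modules) (_ : H.Additive), Nonempty (LD (tG G) ⊣ RD H) := by
  haveI := SheafCoh.hasSheafHom X.sheaf G
  let adj : tG G ⊣ (ModSite.sheafHom (O := X.sheaf) G : X.Modules ⥤ X.Modules) :=
    ModSite.sheafHomAdj (O := X.sheaf) G
  haveI := adj.right_adjoint_additive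
  exact ⟨_, inferInstance, nonempty_derivedAdj adj (acyclic_tG G)⟩

theorem exists_adj_tP (g' : X' ⟶ X) (G : X.Modules) :
    ∃ (H : X'.Modules ⥤ X.Modules) (_ : H.Additive), Nonempty (LD (tP g' G) ⊣ RD H) := by
  haveI := SheafCoh.hasSheafHom X.sheaf G
  let adj : tG G ⊣ (ModSite.sheafHom (O := X.sheaf) G : X.Modules ⥤ X.Modules) :=
    ModSite.sheafHomAdj (O := X.sheaf) G
  let adj' := adj.comp (Scheme.Modules.pullbackPushforwardAdjunction g')
  haveI := adj'.right_adjoint_additive
  exact ⟨_, inferInstance, nonempty_derivedAdj adj' (acyclic_tP g' G)⟩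

variable (G : X.Modules)

/-- The comparison of the derived twist with the twist. -/
def aG : DerivedCategory.Qh ⋙ LD (tG G) ⟶ (tG G).mapHomotopyCategory (ComplexShape.up ℤ) ⋙ DerivedCategory.Qh :=
  Functor.totalLeftDerivedCounit _ DerivedCategory.Qh (HomotopyCategory.quasiIso X.Modules (ComplexShape.up ℤ))

/-- The comparison of the derived twist and pullback with the underived one. -/
def aP (g' : X' ⟶ X) :
    DerivedCategory.Qh ⋙ LD (tP g' G) ⟶ (tP g' G).mapHomotopyCategory (ComplexShape.up ℤ) ⋙ DerivedCategory.Qh :=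
  Functor.totalLeftDerivedCounit _ DerivedCategory.Qh (HomotopyCategory.quasiIso X.Modules (ComplexShape.up ℤ))

instance isLeftDerived_aG : (LD (tG G)).IsLeftDerivedFunctor (aG G)
    (HomotopyCategory.quasiIso X.Modules (ComplexShape.up ℤ)) := by
  unfold aG; infer_instance

instance isLeftDerived_aP (g' : X' ⟶ X) : (LD (tP g' G)).IsLeftDerivedFunctor (aP G g')
    (HomotopyCategory.quasiIso X.Modules (ComplexShape.up ℤ)) := by
  unfold aP; infer_instance

theorem isIso_aG (P : CochainComplex X.Modules ℤ) (hP : DCoh.IsKFlat P) :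
    IsIso ((aG G).app ((HomotopyCategory.quotient _ _).obj P)) :=
  (leftResolvable_of_acyclic (tG G) (acyclic_tG G)).isIso_app_of_isLeftDerivedFunctor _ (aG G) hP

theorem isIso_aP (g' : X' ⟶ X) (P : CochainComplex X.Modules ℤ) (hP : DCoh.IsKFlat P) :
    IsIso ((aP G g').app ((HomotopyCategory.quotient _ _).obj P)) :=
  (leftResolvable_of_acyclic (tP g' G) (acyclic_tP g' G)).isIso_app_of_isLeftDerivedFunctor _ (aP G g') hP

/-- The derived twist on a K-flat complex. -/
def tGVal (P : CochainComplex X.Modules ℤ) (hP : DCoh.IsKFlat P) :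
    (LD (tG G)).obj ((qD X).obj P) ≅ (qD X).obj ((tensorModCx G).obj P) :=
  @asIso _ _ _ _ _ (isIso_aG G P hP)

theorem isQCohD_tG {E : DCoh.D X} (hE : DCoh.IsQCohD E) (hG : Coh.IsQCoh G) :
    DCoh.IsQCohD ((LD (tG G)).obj E) := by
  obtain ⟨P, hP, ⟨e⟩⟩ := exists_kflat_rep E
  let e' : (qD X).obj P ≅ E := (DerivedCategory.quotientCompQhIso X.Modules).app P ≪≫ e
  let v : (LD (tG G)).obj E ≅ DerivedCategory.Q.obj ((tensorModCx G).obj P) :=
    (LD (tG G)).mapIso e'.symm ≪≫ tGVal G P hP ≪≫ (DerivedCategory.quotientCompQhIso X.Modules).app _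
  exact fun i => isQCoh_of_iso ((DerivedCategory.homologyFunctor _ i).mapIso v ≪≫ hdIso _ i).symm
    (isQCoh_homology_tensorMod hG hP (fun j => isQCoh_of_iso
      ((DerivedCategory.homologyFunctor _ j).mapIso e.symm ≪≫ hdIso _ j) (hE j)) i)

variable {f : X ⟶ S} {g : S' ⟶ S} {f' : X' ⟶ S'} {g' : X' ⟶ X}
  (h : IsPullback g' f' f g) {L : DCoh.D S ⥤ DCoh.D S'} (adj : L ⊣ RR g)

/-- The source of the base change map. -/
abbrev srcF (f : X ⟶ S) (L : DCoh.D S ⥤ DCoh.D S') : DCoh.D X ⥤ DCoh.D S' := LD (tG G) ⋙ RR f ⋙ L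

/-- The target of the base change map. -/
abbrev tgtF (g' : X' ⟶ X) (f' : X' ⟶ S') : DCoh.D X ⥤ DCoh.D S' := LD (tP g' G) ⋙ RR f'

/-- The target on the homotopy category. -/
abbrev tgtK (g' : X' ⟶ X) (f' : X' ⟶ S') : HomotopyCategory X.Modules (ComplexShape.up ℤ) ⥤ DCoh.D S' :=
  ((tP g' G).mapHomotopyCategory (ComplexShape.up ℤ) ⋙ DerivedCategory.Qh) ⋙ RR f'

/-- The comparison for the target. -/
def tgtα (g' : X' ⟶ X) (f' : X' ⟶ S') : DerivedCategory.Qh ⋙ tgtF G g' f' ⟶ tgtK G g' f' :=
  (Functor.associator _ _ _).inv ≫ Functor.whiskerRight (aP G g') (RR f')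

instance isLeftDerived_tgtF (g' : X' ⟶ X) (f' : X' ⟶ S') :
    (tgtF G g' f').IsLeftDerivedFunctor (tgtα G g' f') (HomotopyCategory.quasiIso X.Modules (ComplexShape.up ℤ)) :=
  ((leftResolvable_of_acyclic (tP g' G) (acyclic_tP g' G)).postcomp (RR f')).isLeftDerivedFunctor _ _
    fun Q hQ => by
      haveI := isIso_aP G g' Q.as hQ
      show IsIso (𝟙 _ ≫ (RR f').map ((aP G g').app ((HomotopyCategory.quotient _ _).obj Q.as)))
      infer_instance

/-- The base change map on one complex, into the target. -/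
def psiT (C : CochainComplex X.Modules ℤ) :
    L.obj ((RR f).obj ((qD X).obj ((tensorModCx G).obj C))) ⟶
      (RR f').obj ((qD X').obj (((tP g' G).mapHomologicalComplex (ComplexShape.up ℤ)).obj C)) :=
  psi h adj ((tensorModCx G).obj C) ≫ (RR f').map ((qD X').map (tPCx g' G C).hom)

theorem psiT_natural {C C' : CochainComplex X.Modules ℤ} (a : C ⟶ C') :
    L.map ((RR f).map ((qD X).map ((tensorModCx G).map a))) ≫ psiT G h adj C' =
      psiT G h adj C ≫ (RR f').map ((qD X').map (((tP g' G).mapHomologicalComplex (ComplexShape.up ℤ)).map a)) := by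
  rw [psiT, psiT, ← Category.assoc, psi_natural, Category.assoc, Category.assoc, ← Functor.map_comp,
    ← Functor.map_comp, ← Functor.map_comp, ← Functor.map_comp]
  refine congrArg (fun t => psi h adj _ ≫ (RR f').map ((qD X').map t)) ?_
  refine HomologicalComplex.hom_ext _ _ fun n => ?_
  exact (Category.comp_id _).trans (Category.id_comp _).symm

/-- The base change map on the homotopy category. -/
def psiK : ((tG G).mapHomotopyCategory (ComplexShape.up ℤ) ⋙ DerivedCategory.Qh) ⋙ RR f ⋙ L ⟶ tgtK G g' f' where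
  app K := psiT G h adj K.as
  naturality := by
    rintro ⟨C⟩ ⟨C'⟩ ⟨a : C ⟶ C'⟩
    exact psiT_natural G h adj a

/-- The composite out of the derived twist. -/
def srcδ : DerivedCategory.Qh ⋙ srcF G f L ⟶ tgtK G g' f' :=
  (Functor.associator _ _ _).inv ≫ Functor.whiskerRight (aG G) (RR f ⋙ L) ≫ psiK G h adj

/-- **The base change map of a twist.** -/
def Phi : srcF G f L ⟶ tgtF G g' f' :=
  (tgtF G g' f').leftDerivedLift (tgtα G g' f') (HomotopyCategory.quasiIso X.Modules (ComplexShape.up ℤ))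
    (srcF G f L) (srcδ G h adj)

theorem isIso_Phi_iff (P : CochainComplex X.Modules ℤ) (hP : DCoh.IsKFlat P) :
    IsIso ((Phi G h adj).app ((qD X).obj P)) ↔ IsIso (psi h adj ((tensorModCx G).obj P)) := by
  let K := (HomotopyCategory.quotient X.Modules (ComplexShape.up ℤ)).obj P
  have e : (Phi G h adj).app ((qD X).obj P) ≫ (tgtα G g' f').app K =
      (srcδ G h adj).app K :=
    (tgtF G g' f').leftDerived_fac_app (tgtα G g' f') (HomotopyCategory.quasiIso X.Modules (ComplexShape.up ℤ))
      (srcF G f L) (srcδ G h adj) K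
  haveI ht : IsIso ((tgtα G g' f').app K) := by
    haveI := isIso_aP G g' P hP
    show IsIso (𝟙 _ ≫ (RR f').map ((aP G g').app K))
    infer_instance
  haveI hs : IsIso (L.map ((RR f).map ((aG G).app K))) := by
    haveI := isIso_aG G P hP
    infer_instance
  have e' : (srcδ G h adj).app K = L.map ((RR f).map ((aG G).app K)) ≫ psi h adj ((tensorModCx G).obj P) ≫
      (RR f').map ((qD X').map (tPCx g' G P).hom) := by
    show 𝟙 _ ≫ L.map ((RR f).map ((aG G).app K)) ≫ psiT G h adj P = _
    rw [Category.id_comp]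
    rfl
  have hc : IsIso ((RR f').map ((qD X').map (tPCx g' G P).hom)) := inferInstance
  constructor
  · intro h1
    have h2 : IsIso ((srcδ G h adj).app K) := e ▸ @IsIso.comp_isIso _ _ _ _ _ _ _ h1 ht
    rw [e'] at h2
    have h3 := @IsIso.of_isIso_comp_left _ _ _ _ _ _ _ hs h2
    exact @IsIso.of_isIso_comp_right _ _ _ _ _ _ _ hc h3
  · intro h1
    have h2 : IsIso ((Phi G h adj).app ((qD X).obj P) ≫ (tgtα G g' f').app K) := by
      rw [e, e']; exact @IsIso.comp_isIso _ _ _ _ _ _ _ hs (@IsIso.comp_isIso _ _ _ _ _ _ _ h1 hc)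
    exact @IsIso.of_isIso_comp_right _ _ _ _ _ _ _ ht h2

/-- The class of objects at which the base change map of the twist is invertible, with all shifts. -/
def Good (E : DCoh.D X) : Prop := ∀ n : ℤ, IsIso ((Phi G h adj).app (E⟦n⟧))

theorem thick_good : TriCat.Thick (Good G h adj) := by
  obtain ⟨H, _, ⟨a⟩⟩ := exists_adj_tG G
  obtain ⟨H', _, ⟨a'⟩⟩ := exists_adj_tP g' G
  letI := ldCommShift a
  letI := ldCommShift a'
  haveI := isTriangulated_LD a
  haveI := isTriangulated_LD a'
  letI : L.CommShift ℤ := adj.leftAdjointCommShift ℤ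
  haveI : L.IsTriangulated := by
    haveI : adj.CommShift ℤ := adj.commShift_of_rightAdjoint ℤ
    exact adj.isTriangulated_leftAdjoint
  exact thick_isIso (srcF G f L) (tgtF G g' f') (Phi G h adj)

theorem isIso_Phi_of_good {E : DCoh.D X} (hE : Good G h adj E) : IsIso ((Phi G h adj).app E) :=
  isIso_app_zero (Phi G h adj) E (hE 0)

theorem isQCohD_tP {E : DCoh.D X} (hE : DCoh.IsQCohD E) (hG : Coh.IsQCoh G) (g' : X' ⟶ X) :
    DCoh.IsQCohD ((LD (tP g' G)).obj E) := by
  haveI : G.IsQuasicoherent := hG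
  obtain ⟨P, hP, ⟨e⟩⟩ := exists_kflat_rep E
  let e' : (qD X).obj P ≅ E := (DerivedCategory.quotientCompQhIso X.Modules).app P ≪≫ e
  let w : (LD (tP g' G)).obj ((qD X).obj P) ≅
      (qD X').obj (((tP g' G).mapHomologicalComplex (ComplexShape.up ℤ)).obj P) := @asIso _ _ _ _ _ (isIso_aP G g' P hP)
  let v : (LD (tP g' G)).obj E ≅
      DerivedCategory.Q.obj ((tensorModCx ((Scheme.Modules.pullback g').obj G)).obj ((pullCxF g').obj P)) :=
    (LD (tP g' G)).mapIso e'.symm ≪≫ w ≪≫ (DerivedCategory.quotientCompQhIso X'.Modules).app _ ≪≫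
      DerivedCategory.Q.mapIso ((tPCx g' G P).symm ≪≫ tPIso g' G P)
  exact fun i => isQCoh_of_iso ((DerivedCategory.homologyFunctor _ i).mapIso v ≪≫ hdIso _ i).symm
    (isQCoh_homology_tensorMod (FittSheaf.isQuasicoherent_pullback g' G) (isKFlat_pullback g' hP)
      (isQCoh_homology_pullCx g' hP fun j => isQCoh_of_iso
        ((DerivedCategory.homologyFunctor _ j).mapIso e.symm ≪≫ hdIso _ j) (hE j)) i)

theorem good_sigma [QuasiCompact f] [QuasiSeparated f] (hG : Coh.IsQCoh G) (J : Type u) (Z : J → DCoh.D X)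
    [HasCoproduct Z] (hZ : ∀ j, DCoh.IsQCohD (Z j)) (hg : ∀ j, Good G h adj (Z j)) : Good G h adj (∐ Z) := by
  intro n
  haveI : QuasiCompact f' := MorphismProperty.of_isPullback h ‹QuasiCompact f›
  haveI : QuasiSeparated f' := MorphismProperty.of_isPullback h ‹QuasiSeparated f›
  haveI : HasColimitsOfShape (Discrete J) (DCoh.D X) := HoCat.derivedCategory_hasColimitsOfShape
  haveI : HasColimitsOfShape (Discrete J) (DCoh.D X') := HoCat.derivedCategory_hasColimitsOfShape
  haveI : HasColimitsOfShape (Discrete J) (DCoh.D S) := HoCat.derivedCategory_hasColimitsOfShape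
  haveI : HasColimitsOfShape (Discrete J) (DCoh.D S') := HoCat.derivedCategory_hasColimitsOfShape
  obtain ⟨H, _, ⟨a⟩⟩ := exists_adj_tG G
  obtain ⟨H', _, ⟨a'⟩⟩ := exists_adj_tP g' G
  haveI := a.leftAdjoint_preservesColimits
  haveI := a'.leftAdjoint_preservesColimits
  haveI := adj.leftAdjoint_preservesColimits
  let W := fun j => (Z j)⟦n⟧
  refine (NatTrans.isIso_app_iff_of_iso (Phi G h adj) (PreservesCoproduct.iso (shiftFunctor (DCoh.D X) n) Z)).2 ?_
  have hW : ∀ j, DCoh.IsQCohD (W j) := fun j => isQCohD_shift (hZ j) n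
  haveI hF : IsIso (sigmaComparison (srcF G f L) W) := by
    rw [sigmaComparison_comp (LD (tG G)) (RR f ⋙ L), sigmaComparison_comp (RR f) L]
    haveI : IsIso (sigmaComparison (LD (tG G)) W) := (PreservesCoproduct.iso (LD (tG G)) W).isIso_inv
    haveI : IsIso (sigmaComparison (RR f) fun j => (LD (tG G)).obj (W j)) :=
      isIso_Rres_coprod f _ fun j => isQCohD_tG G (hW j) hG
    haveI : IsIso (sigmaComparison L fun j => (RR f).obj ((LD (tG G)).obj (W j))) :=
      (PreservesCoproduct.iso L fun j => (RR f).obj ((LD (tG G)).obj (W j))).isIso_inv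
    infer_instance
  haveI hG' : IsIso (sigmaComparison (tgtF G g' f') W) := by
    rw [sigmaComparison_comp]
    haveI : IsIso (sigmaComparison (RR f') fun j => (LD (tP g' G)).obj (W j)) :=
      isIso_Rres_coprod f' _ fun j => isQCohD_tP G (hW j) hG g'
    haveI : IsIso (sigmaComparison (LD (tP g' G)) W) := (PreservesCoproduct.iso (LD (tP g' G)) W).isIso_inv
    infer_instance
  exact TorBC25.isIso_app_sigma (Phi G h adj) W fun j => hg j n

end GrothLib.BCFlat25
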