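import Groth.Agent.Lib.BCFlat25.Unit

/-! # Base change maps on complexes -/

set_option autoImplicit false
set_option maxHeartbeats 1000000
set_option linter.style.haveILetI false
universe u

open CategoryTheory CategoryTheory.Limits AlgebraicGeometry HomologicalComplex

attribute [local instance] HasDerivedCategory.standard

noncomputable section

namespace GrothLib.BCFlat25

open GrothLib.OX GrothLib.TorBC25

section Generic

universe v₁ v₂ v₃ w₁ w₂ w₃

variable {A : Type w₁} [Category.{v₁} A] {B : Type w₂} [Category.{v₂} B] {B' : Type w₂} [Category.{v₂} B']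
  {C : Type w₃} [Category.{v₃} C]

/-- The component of a comparison of a composite. -/
def app1 {F : A ⥤ B} {G : B ⥤ C} {H : A ⥤ C} (α : F ⋙ G ≅ H) (E : A) : G.obj (F.obj E) ⟶ H.obj E := α.hom.app E

instance isIso_app1 {F : A ⥤ B} {G : B ⥤ C} {H : A ⥤ C} (α : F ⋙ G ≅ H) (E : A) : IsIso (app1 α E) :=
  (α.app E).isIso_hom

theorem app1_natural {F : A ⥤ B} {G : B ⥤ C} {H : A ⥤ C} (α : F ⋙ G ≅ H) {E E' : A} (u : E ⟶ E') :
    G.map (F.map u) ≫ app1 α E' = app1 α E ≫ H.map u := α.hom.naturality u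

/-- The component of a comparison of two composites. -/
def app2 {F : A ⥤ B} {G : B ⥤ C} {H : A ⥤ B'} {K : B' ⥤ C} (α : F ⋙ G ≅ H ⋙ K) (E : A) :
    G.obj (F.obj E) ⟶ K.obj (H.obj E) := α.hom.app E

theorem app2_natural {F : A ⥤ B} {G : B ⥤ C} {H : A ⥤ B'} {K : B' ⥤ C} (α : F ⋙ G ≅ H ⋙ K) {E E' : A}
    (u : E ⟶ E') : G.map (F.map u) ≫ app2 α E' = app2 α E ≫ K.map (H.map u) := α.hom.naturality u

theorem app2_sq {F : A ⥤ B} {G : B ⥤ C} {H : A ⥤ B'} {K : B' ⥤ C} {P Q : A ⥤ C} (α : F ⋙ G ≅ P) (γ : P ≅ Q)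
    (β : H ⋙ K ≅ Q) (E : A) : app2 (α ≪≫ γ ≪≫ β.symm) E ≫ app1 β E = app1 α E ≫ γ.hom.app E :=
  iso_sq_comp α γ β E

end Generic

/-- The comparison for a composite, at one object. -/
abbrev cA {X Y Z : Scheme.{u}} (p : X ⟶ Y) (q : Y ⟶ Z) (E : DCoh.D X) :
    (RR q).obj ((RR p).obj E) ⟶ (RR (p ≫ q)).obj E := app1 (RRCompIso p q) E

theorem uTo_comp' {X Y Z : Scheme.{u}} (k : Z ⟶ X) (g : X ⟶ Y) (T : CochainComplex Y.Modules ℤ) :
    uTo g T ≫ (RR g).map (uTo k ((pullCxF g).obj T)) ≫ cA k g _ =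
      uTo (k ≫ g) T ≫ (RR (k ≫ g)).map ((qD Z).map (pullCxComp k g T)) :=
  uTo_comp k g T

theorem homEquiv_compAdj' {S S' S'' : Scheme.{u}} {g : S' ⟶ S} {k : S'' ⟶ S'} {L : DCoh.D S ⥤ DCoh.D S'}
    (adj : L ⊣ RR g) {M : DCoh.D S' ⥤ DCoh.D S''} (adjk : M ⊣ RR k) {A : DCoh.D S} {B : DCoh.D S''}
    (φ : M.obj (L.obj A) ⟶ B) :
    (compAdj adj adjk).homEquiv A B φ = adj.homEquiv _ _ (adjk.homEquiv _ _ φ) ≫ cA k g B :=
  homEquiv_compAdj adj adjk φ

variable {X X' S S' : Scheme.{u}} {f : X ⟶ S} {g : S' ⟶ S} {f' : X' ⟶ S'} {g' : X' ⟶ X}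
  (h : IsPullback g' f' f g)

/-- The square of derived direct images, at one object. -/
abbrev sqA (E : DCoh.D X') : (RR f).obj ((RR g').obj E) ⟶ (RR g).obj ((RR f').obj E) := app2 (RRSquareIso h) E

theorem sqA_comp (E : DCoh.D X') : sqA h E ≫ cA f' g E = cA g' f E ≫ (RRCongr h.w).hom.app E  :=
  app2_sq (RRCompIso g' f) (RRCongr h.w) (RRCompIso f' g) E

theorem sqA_horiz {S'' X'' : Scheme.{u}} {k : S'' ⟶ S'} {k' : X'' ⟶ X'} {f'' : X'' ⟶ S''}
    (h₂ : IsPullback k' f'' f' k) (h₁₂ : IsPullback (k' ≫ g') f'' f (k ≫ g)) (E : DCoh.D X'') :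
    (RR f).map (cA k' g' E) ≫ sqA h₁₂ E =
      sqA h ((RR k').obj E) ≫ (RR g).map (sqA h₂ E) ≫ cA k g ((RR f'').obj E) :=
  hexagon_horiz h h₂ h₁₂ E

theorem sqA_vert {V V' : Scheme.{u}} {j : V ⟶ X} {j' : V' ⟶ X'} {g'' : V' ⟶ V}
    (h₀ : IsPullback g'' j' j g') (h₀₁ : IsPullback g'' (j' ≫ f') (j ≫ f) g) (E : DCoh.D V') :
    cA j f ((RR g'').obj E) ≫ sqA h₀₁ E =
      (RR f).map (sqA h₀ E) ≫ sqA h ((RR j').obj E) ≫ (RR g).map (cA j' f' E) :=
  hexagon_vert h h₀ h₀₁ E

section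

variable {L : DCoh.D S ⥤ DCoh.D S'} (adj : L ⊣ RR g)

theorem homEquiv_thA' {L' : DCoh.D X ⥤ DCoh.D X'} (adj' : L' ⊣ RR g') (E : DCoh.D X) :
    adj.homEquiv _ _ (thA h adj adj' E) = (RR f).map (adj'.unit.app E) ≫ sqA h (L'.obj E) :=
  homEquiv_thA h adj adj' E

/-- The base change map into the derived direct image of the underived pullback. -/
def psi (T : CochainComplex X.Modules ℤ) :
    L.obj ((RR f).obj ((qD X).obj T)) ⟶ (RR f').obj ((qD X').obj ((pullCxF g').obj T)) :=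
  (adj.homEquiv _ _).symm ((RR f).map (uTo g' T) ≫ sqA h _)

theorem homEquiv_psi (T : CochainComplex X.Modules ℤ) :
    adj.homEquiv _ _ (psi h adj T) = (RR f).map (uTo g' T) ≫ sqA h _ :=
  Equiv.apply_symm_apply _ _

theorem psi_natural {T T' : CochainComplex X.Modules ℤ} (a : T ⟶ T') :
    L.map ((RR f).map ((qD X).map a)) ≫ psi h adj T' =
      psi h adj T ≫ (RR f').map ((qD X').map ((pullCxF g').map a)) := by
  apply (adj.homEquiv _ _).injective
  rw [Adjunction.homEquiv_naturality_left, Adjunction.homEquiv_naturality_right, homEquiv_psi, homEquiv_psi,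
    Category.assoc]
  have h1 : (RR f).map ((RR g').map ((qD X').map ((pullCxF g').map a))) ≫ sqA h _ =
      sqA h _ ≫ (RR g).map ((RR f').map ((qD X').map ((pullCxF g').map a))) :=
    app2_natural (RRSquareIso h) ((qD X').map ((pullCxF g').map a))
  rw [← h1, ← Category.assoc, ← Category.assoc, ← Functor.map_comp, ← Functor.map_comp]
  exact congrArg (fun t => (RR f).map t ≫ _) (uTo_natural g' a)

theorem isIso_psi_iff_of_iso {T T' : CochainComplex X.Modules ℤ} (a : T ⟶ T') [IsIso a] :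
    IsIso (psi h adj T) ↔ IsIso (psi h adj T') := by
  have e := psi_natural h adj a
  constructor
  · intro h1
    haveI : IsIso (L.map ((RR f).map ((qD X).map a)) ≫ psi h adj T') := by rw [e]; infer_instance
    exact IsIso.of_isIso_comp_left (L.map ((RR f).map ((qD X).map a))) _
  · intro h1
    haveI : IsIso (psi h adj T ≫ (RR f').map ((qD X').map ((pullCxF g').map a))) := by rw [← e]; infer_instance
    exact IsIso.of_isIso_comp_right _ ((RR f').map ((qD X').map ((pullCxF g').map a)))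

theorem isIso_psi_adj_iff {L₂ : DCoh.D S ⥤ DCoh.D S'} (adj₂ : L₂ ⊣ RR g) (T : CochainComplex X.Modules ℤ) :
    IsIso (psi h adj T) ↔ IsIso (psi h adj₂ T) := by
  have e : psi h adj T = (adj.leftAdjointUniq adj₂).hom.app _ ≫ psi h adj₂ T := by
    apply (adj.homEquiv _ _).injective
    rw [homEquiv_psi, ← homEquiv_psi h adj₂, Adjunction.homEquiv_unit, Adjunction.homEquiv_unit, Functor.map_comp,
      ← Category.assoc, Adjunction.unit_leftAdjointUniq_hom_app]
  rw [e]
  exact ⟨fun h1 => IsIso.of_isIso_comp_left ((adj.leftAdjointUniq adj₂).hom.app _) _, fun h1 => inferInstance⟩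

/-- Pasting horizontally. -/
theorem psi_horiz {S'' X'' : Scheme.{u}} {k : S'' ⟶ S'} {k' : X'' ⟶ X'} {f'' : X'' ⟶ S''}
    (h₂ : IsPullback k' f'' f' k) (h₁₂ : IsPullback (k' ≫ g') f'' f (k ≫ g))
    {M : DCoh.D S' ⥤ DCoh.D S''} (adjk : M ⊣ RR k) (T : CochainComplex X.Modules ℤ) :
    M.map (psi h adj T) ≫ psi h₂ adjk ((pullCxF g').obj T) =
      psi h₁₂ (compAdj adj adjk) T ≫ (RR f'').map ((qD X'').map (pullCxComp k' g' T)) := by
  apply ((compAdj adj adjk).homEquiv _ _).injective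
  rw [Adjunction.homEquiv_naturality_right (compAdj adj adjk) (psi h₁₂ (compAdj adj adjk) T), homEquiv_psi h₁₂]
  refine (homEquiv_compAdj' adj adjk _).trans ?_
  rw [Adjunction.homEquiv_naturality_left, Adjunction.homEquiv_naturality_right, homEquiv_psi, homEquiv_psi]
  let E := (qD X'').obj ((pullCxF k').obj ((pullCxF g').obj T))
  have h1 : sqA h _ ≫ (RR g).map ((RR f').map (uTo k' ((pullCxF g').obj T))) =
      (RR f).map ((RR g').map (uTo k' ((pullCxF g').obj T))) ≫ sqA h ((RR k').obj E) :=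
    (app2_natural (RRSquareIso h) (uTo k' ((pullCxF g').obj T))).symm
  have h2 : (RR f).map ((RR (k' ≫ g')).map ((qD X'').map (pullCxComp k' g' T))) ≫ sqA h₁₂ E =
      sqA h₁₂ _ ≫ (RR (k ≫ g)).map ((RR f'').map ((qD X'').map (pullCxComp k' g' T))) :=
    app2_natural (RRSquareIso h₁₂) ((qD X'').map (pullCxComp k' g' T))
  simp only [Functor.map_comp, Category.assoc]
  rw [ra h1, Category.assoc, ← sqA_horiz h h₂ h₁₂ E]
  refine Eq.trans ?_ (congrArg ((RR f).map _ ≫ ·) h2)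
  simp only [← Category.assoc, ← Functor.map_comp]
  refine congrArg (fun t => (RR f).map t ≫ _) ?_
  rw [Category.assoc]
  exact uTo_comp' k' g' T

end

section Open

variable {U : Scheme.{u}} {i : U ⟶ S} {fU : X' ⟶ U} {i' : X' ⟶ X} (hU : IsPullback i' fU f i) [IsOpenImmersion i]
  [IsOpenImmersion i']

/-- Base change along an open immersion, on complexes. -/
theorem isIso_psi_open {L : DCoh.D S ⥤ DCoh.D U} (adj : L ⊣ RR i) (T : CochainComplex X.Modules ℤ) :
    IsIso (psi hU adj T) := by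
  refine (isIso_psi_adj_iff hU adj (resDAdj i) T).2 ?_
  have e : psi hU (resDAdj i) T = thA hU (resDAdj i) (resDAdj i') ((qD X).obj T) ≫ (RR fU).map (dTo i' T) := by
    apply ((resDAdj i).homEquiv _ _).injective
    rw [homEquiv_psi, Adjunction.homEquiv_naturality_right, homEquiv_thA']
    have h1 : (RR f).map ((RR i').map (dTo i' T)) ≫ sqA hU _ =
        sqA hU _ ≫ (RR i).map ((RR fU).map (dTo i' T)) :=
      app2_natural (RRSquareIso hU) (dTo i' T)
    rw [Category.assoc, ← h1, ← Category.assoc, ← Functor.map_comp, unit_dTo]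
  rw [e]
  haveI := isIso_thA_open hU ((qD X).obj T)
  haveI := isIso_dTo i' T
  infer_instance

end Open

section Vert

variable {V V' : Scheme.{u}} {j : V ⟶ X} {j' : V' ⟶ X'} {g'' : V' ⟶ V} (h₀ : IsPullback g'' j' j g')

/-- A map into a pullback, moved along an equality of morphisms. -/
theorem uTo_congr_map {Y Z : Scheme.{u}} {p q : Z ⟶ Y} (e : p = q) (T : CochainComplex Y.Modules ℤ)
    {W : CochainComplex Z.Modules ℤ} (c : (pullCxF p).obj T ⟶ W) :
    uTo p T ≫ (RR p).map ((qD Z).map c) ≫ (RRCongr e).hom.app _ =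
      uTo q T ≫ (RR q).map ((qD Z).map ((pullCxCongr e T).inv ≫ c)) := by
  rw [(RRCongr e).hom.naturality, ← Category.assoc, uTo_congr, Category.assoc, ← Functor.map_comp, ← Functor.map_comp]

/-- The two ways of pulling back in a square. -/
def swapCx (T : CochainComplex X.Modules ℤ) :
    (pullCxF j').obj ((pullCxF g').obj T) ⟶ (pullCxF g'').obj ((pullCxF j).obj T) :=
  inv (pullCxComp j' g' T) ≫ (pullCxCongr h₀.w T).inv ≫ pullCxComp g'' j T

instance isIso_swapCx (T : CochainComplex X.Modules ℤ) : IsIso (swapCx h₀ T) := by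
  unfold swapCx; infer_instance

theorem uTo_square (T : CochainComplex X.Modules ℤ) :
    uTo g' T ≫ (RR g').map (uTo j' ((pullCxF g').obj T) ≫ (RR j').map ((qD V').map (swapCx h₀ T))) =
      uTo j T ≫ (RR j).map (uTo g'' ((pullCxF j).obj T)) ≫ sqA h₀ _ := by
  rw [← cancel_mono (cA j' g' ((qD V').obj ((pullCxF g'').obj ((pullCxF j).obj T))))]
  have e1 : (RR g').map ((RR j').map ((qD V').map (swapCx h₀ T))) ≫ cA j' g' _ =
      cA j' g' _ ≫ (RR (j' ≫ g')).map ((qD V').map (swapCx h₀ T)) :=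
    app1_natural (RRCompIso j' g') ((qD V').map (swapCx h₀ T))
  have e2 : (RR (g'' ≫ j)).map ((qD V').map (pullCxComp g'' j T)) ≫ (RRCongr h₀.w).hom.app _ =
      (RRCongr h₀.w).hom.app _ ≫ (RR (j' ≫ g')).map ((qD V').map (pullCxComp g'' j T)) :=
    (RRCongr h₀.w).hom.naturality ((qD V').map (pullCxComp g'' j T))
  simp only [Functor.map_comp, Category.assoc]
  rw [e1, sqA_comp h₀ _]
  refine Eq.trans (b := uTo (j' ≫ g') T ≫ (RR (j' ≫ g')).map ((qD V').map (pullCxComp j' g' T ≫ swapCx h₀ T))) ?_ ?_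
  · rw [Functor.map_comp, Functor.map_comp, ← Category.assoc (uTo (j' ≫ g') T), ← uTo_comp']
    simp only [Category.assoc]
  · rw [swapCx, IsIso.hom_inv_id_assoc, ← uTo_congr_map h₀.w T (pullCxComp g'' j T)]
    exact ((reassoc_of% (uTo_comp' g'' j T)) ((RRCongr h₀.w).hom.app _)).symm

variable {L : DCoh.D S ⥤ DCoh.D S'} (adj : L ⊣ RR g) (h₀₁ : IsPullback g'' (j' ≫ f') (j ≫ f) g)

/-- Pasting vertically. -/
theorem psi_vert (T : CochainComplex X.Modules ℤ) :
    L.map ((RR f).map (uTo j T) ≫ cA j f _) ≫ psi h₀₁ adj ((pullCxF j).obj T) =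
      psi h adj T ≫ (RR f').map (uTo j' ((pullCxF g').obj T) ≫ (RR j').map ((qD V').map (swapCx h₀ T))) ≫
        cA j' f' _ := by
  apply (adj.homEquiv _ _).injective
  rw [Adjunction.homEquiv_naturality_left, Adjunction.homEquiv_naturality_right, homEquiv_psi, homEquiv_psi]
  let u := uTo g'' ((pullCxF j).obj T)
  let w := uTo j' ((pullCxF g').obj T) ≫ (RR j').map ((qD V').map (swapCx h₀ T))
  let E := (qD V').obj ((pullCxF g'').obj ((pullCxF j).obj T))
  have h1 : cA j f _ ≫ (RR (j ≫ f)).map u =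
      (RR f).map ((RR j).map u) ≫ cA j f ((RR g'').obj E) :=
    (app1_natural (RRCompIso j f) u).symm
  have h2 : sqA h _ ≫ (RR g).map ((RR f').map w) =
      (RR f).map ((RR g').map w) ≫ sqA h ((RR j').obj E) :=
    (app2_natural (RRSquareIso h) w).symm
  show ((RR f).map (uTo j T) ≫ cA j f _) ≫ (RR (j ≫ f)).map u ≫ sqA h₀₁ E =
    ((RR f).map (uTo g' T) ≫ sqA h _) ≫ (RR g).map ((RR f').map w ≫ cA j' f' E)
  rw [Functor.map_comp, Category.assoc, Category.assoc, ra h1, ra h2, Category.assoc, Category.assoc,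
    sqA_vert h h₀ h₀₁ E]
  simp only [← Category.assoc, ← Functor.map_comp]
  refine congrArg (fun t => ((RR f).map t ≫ _) ≫ _) ?_
  rw [Category.assoc]
  exact (uTo_square h₀ T).symm

end Vert

end GrothLib.BCFlat25
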