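import Groth.Agent.Lib.TorBC25.ThA
import Groth.Agent.Lib.OX.RestrictAdj
import Groth.Agent.Lib.OX.LocalTensor

/-! # The underived pullback, seen in the derived direct image -/

set_option autoImplicit false
set_option maxHeartbeats 1000000
set_option linter.style.haveILetI false
universe u

open CategoryTheory CategoryTheory.Limits AlgebraicGeometry HomologicalComplex
open Scheme.Modules (pushforward pushforwardComp pullbackComp pullbackPushforwardAdjunction)

attribute [local instance] HasDerivedCategory.standard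

noncomputable section

namespace GrothLib.BCFlat25

open GrothLib.OX GrothLib.TorBC25

variable {X Y Z : Scheme.{u}}

/-- The unit of pullback and direct image, on complexes. -/
def cxUnit (g : X ⟶ Y) (T : CochainComplex Y.Modules ℤ) : T ⟶ (pushCxF g).obj ((pullCxF g).obj T) where
  f n := (pullbackPushforwardAdjunction g).unit.app (T.X n)
  comm' n m _ := ((pullbackPushforwardAdjunction g).unit.naturality (T.d n m)).symm

theorem cxUnit_natural (g : X ⟶ Y) {T T' : CochainComplex Y.Modules ℤ} (a : T ⟶ T') :
    a ≫ cxUnit g T' = cxUnit g T ≫ (pushCxF g).map ((pullCxF g).map a) :=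
  HomologicalComplex.hom_ext _ _ fun n => (pullbackPushforwardAdjunction g).unit.naturality (a.f n)

/-- From a complex to the derived direct image of its underived pullback. -/
def uTo (g : X ⟶ Y) (T : CochainComplex Y.Modules ℤ) : (qD Y).obj T ⟶ (RR g).obj ((qD X).obj ((pullCxF g).obj T)) :=
  (qD Y).map (cxUnit g T) ≫ uU g _

theorem uTo_natural (g : X ⟶ Y) {T T' : CochainComplex Y.Modules ℤ} (a : T ⟶ T') :
    (qD Y).map a ≫ uTo g T' = uTo g T ≫ (RR g).map ((qD X).map ((pullCxF g).map a)) := by
  rw [uTo, uTo, ← Category.assoc, ← Functor.map_comp, cxUnit_natural, Functor.map_comp, Category.assoc,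
    Category.assoc]
  exact congrArg (_ ≫ ·) (uU_naturality g ((pullCxF g).map a))

/-- Composite pullbacks of complexes. -/
def pullCxComp (k : Z ⟶ X) (g : X ⟶ Y) (T : CochainComplex Y.Modules ℤ) :
    (pullCxF (k ≫ g)).obj T ⟶ (pullCxF k).obj ((pullCxF g).obj T) where
  f n := (pullbackComp k g).inv.app (T.X n)
  comm' n m _ := ((pullbackComp k g).inv.naturality (T.d n m)).symm

instance isIso_pullCxComp (k : Z ⟶ X) (g : X ⟶ Y) (T : CochainComplex Y.Modules ℤ) : IsIso (pullCxComp k g T) := by
  haveI : ∀ n, IsIso ((pullCxComp k g T).f n) := fun n =>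
    inferInstanceAs (IsIso ((pullbackComp k g).inv.app (T.X n)))
  exact HomologicalComplex.Hom.isIso_of_components _

theorem unit_comp (k : Z ⟶ X) (g : X ⟶ Y) (M : Y.Modules) :
    (pullbackPushforwardAdjunction g).unit.app M ≫
        (pushforward g).map ((pullbackPushforwardAdjunction k).unit.app ((Scheme.Modules.pullback g).obj M)) ≫
          (pushforwardComp k g).hom.app ((Scheme.Modules.pullback k).obj ((Scheme.Modules.pullback g).obj M)) =
      (pullbackPushforwardAdjunction (k ≫ g)).unit.app M ≫
        (pushforward (k ≫ g)).map ((pullbackComp k g).inv.app M) := by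
  have h := unit_conjugateEquiv ((pullbackPushforwardAdjunction g).comp (pullbackPushforwardAdjunction k))
    (pullbackPushforwardAdjunction (k ≫ g)) (pullbackComp k g).inv M
  rw [Scheme.Modules.conjugateEquiv_pullbackComp_inv] at h
  simp only [Adjunction.comp_unit_app, Category.assoc] at h
  exact h

theorem cxUnit_comp (k : Z ⟶ X) (g : X ⟶ Y) (T : CochainComplex Y.Modules ℤ) :
    cxUnit g T ≫ (pushCxF g).map (cxUnit k ((pullCxF g).obj T)) ≫
        (NatTrans.mapHomologicalComplex (pushforwardComp k g).hom (ComplexShape.up ℤ)).app _ =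
      cxUnit (k ≫ g) T ≫ (pushCxF (k ≫ g)).map (pullCxComp k g T) :=
  HomologicalComplex.hom_ext _ _ fun n => unit_comp k g (T.X n)

theorem uTo_comp (k : Z ⟶ X) (g : X ⟶ Y) (T : CochainComplex Y.Modules ℤ) :
    uTo g T ≫ (RR g).map (uTo k ((pullCxF g).obj T)) ≫ (RRCompIso k g).hom.app _ =
      uTo (k ≫ g) T ≫ (RR (k ≫ g)).map ((qD Z).map (pullCxComp k g T)) := by
  let T₁ := (pullCxF g).obj T
  have h1 : uU g T₁ ≫ (RR g).map (uTo k T₁) =
      (qD Y).map ((pushCxF g).map (cxUnit k T₁)) ≫ uU g _ ≫ (RR g).map (uU k ((pullCxF k).obj T₁)) := by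
    rw [uTo, Functor.map_comp]
    exact (Category.assoc _ _ _).symm.trans
      ((congrArg (· ≫ _) (uU_naturality g (cxUnit k T₁)).symm).trans (Category.assoc _ _ _))
  have h2 := uU_comp k g ((pullCxF k).obj T₁)
  have h3 : uU (k ≫ g) ((pullCxF (k ≫ g)).obj T) ≫ (RR (k ≫ g)).map ((qD Z).map (pullCxComp k g T)) =
      (qD Y).map ((pushCxF (k ≫ g)).map (pullCxComp k g T)) ≫ uU (k ≫ g) _ :=
    (uU_naturality (k ≫ g) (pullCxComp k g T)).symm
  calc uTo g T ≫ (RR g).map (uTo k T₁) ≫ (RRCompIso k g).hom.app _
      = (qD Y).map (cxUnit g T) ≫ (uU g T₁ ≫ (RR g).map (uTo k T₁)) ≫ (RRCompIso k g).hom.app _ := by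
        simp only [uTo, Category.assoc]; rfl
    _ = ((qD Y).map (cxUnit g T) ≫ (qD Y).map ((pushCxF g).map (cxUnit k T₁))) ≫
          (uU g _ ≫ (RR g).map (uU k ((pullCxF k).obj T₁)) ≫ (RRCompIso k g).hom.app _) := by
        rw [h1]; simp only [Category.assoc]
    _ = (qD Y).map (cxUnit g T ≫ (pushCxF g).map (cxUnit k T₁) ≫
          (NatTrans.mapHomologicalComplex (pushforwardComp k g).hom (ComplexShape.up ℤ)).app _) ≫
            uU (k ≫ g) _ := by
        rw [h2]; simp only [Functor.map_comp, Category.assoc]; rfl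
    _ = uTo (k ≫ g) T ≫ (RR (k ≫ g)).map ((qD Z).map (pullCxComp k g T)) := by
        rw [cxUnit_comp, Functor.map_comp, uTo, Category.assoc, Category.assoc, h3]

/-- Underived pullbacks along equal morphisms. -/
def pullCxCongr {g g₂ : X ⟶ Y} (e : g = g₂) (T : CochainComplex Y.Modules ℤ) :
    (pullCxF g).obj T ≅ (pullCxF g₂).obj T := eqToIso (by rw [e])

theorem uTo_congr {g g₂ : X ⟶ Y} (e : g = g₂) (T : CochainComplex Y.Modules ℤ) :
    uTo g T ≫ (RRCongr e).hom.app _ = uTo g₂ T ≫ (RR g₂).map ((qD X).map (pullCxCongr e T).inv) := by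
  subst e
  rw [show (RRCongr (rfl : g = g)).hom.app ((qD X).obj ((pullCxF g).obj T)) = 𝟙 _ from rfl, Category.comp_id,
    show (pullCxCongr (rfl : g = g) T).inv = 𝟙 _ from rfl, CategoryTheory.Functor.map_id,
    CategoryTheory.Functor.map_id, Category.comp_id]

section Open

variable {U : Scheme.{u}} (j : U ⟶ X) [IsOpenImmersion j]

/-- The unit of the adjunction of direct image and restriction is inverted by restriction. -/
theorem isIso_restrict_unit (M : X.Modules) :
    IsIso ((Scheme.Modules.restrictFunctor j).map ((pullbackPushforwardAdjunction j).unit.app M)) := by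
  rw [← Adjunction.unit_leftAdjointUniq_hom_app (Scheme.Modules.restrictAdjunction j)
    (pullbackPushforwardAdjunction j) M, Functor.map_comp]
  haveI : IsIso ((Scheme.Modules.restrictFunctor j).map ((Scheme.Modules.restrictAdjunction j).unit.app M)) :=
    IsIso.of_isIso_fac_right (h := 𝟙 _) ((Scheme.Modules.restrictAdjunction j).left_triangle_components M)
  infer_instance

theorem isIso_resD_uU (T : CochainComplex U.Modules ℤ) : IsIso ((resD j).map (uU j T)) := by
  let η := (KInj.resAdj U.Modules).unit.app ((HomotopyCategory.quotient _ _).obj T)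
  let adj := KInj.mapHomotopyAdj (Scheme.Modules.restrictAdjunction j)
  haveI : IsIso adj.counit := by
    have : ∀ K, IsIso (adj.counit.app K) := fun K => by
      have : IsIso ((KInj.mapComplexAdj (Scheme.Modules.restrictAdjunction j) (ComplexShape.up ℤ)).counit.app K.as) := by
        have : ∀ i, IsIso (((KInj.mapComplexAdj (Scheme.Modules.restrictAdjunction j)
            (ComplexShape.up ℤ)).counit.app K.as).f i) := fun i =>
          inferInstanceAs (IsIso ((Scheme.Modules.restrictAdjunction j).counit.app (K.as.X i)))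
        exact HomologicalComplex.Hom.isIso_of_components _
      exact (asIso ((KInj.mapComplexAdj (Scheme.Modules.restrictAdjunction j) (ComplexShape.up ℤ)).counit.app K.as) |>
        (HomotopyCategory.quotient U.Modules (ComplexShape.up ℤ)).mapIso).isIso_hom
    exact NatIso.isIso_of_isIso_app _
  let e : DCoh.pushKh j ⋙ resD j ≅ DerivedCategory.Qh :=
    Functor.associator _ _ _ ≪≫
      Functor.isoWhiskerLeft _ (Scheme.Modules.restrictFunctor j).mapDerivedCategoryFactorsh ≪≫
      (Functor.associator _ _ _).symm ≪≫ Functor.isoWhiskerRight (asIso adj.counit) DerivedCategory.Qh ≪≫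
      Functor.leftUnitor _
  have h : IsIso (DerivedCategory.Qh.map η) := SiteDer.isIso_Qh_map_unit _
  exact (NatIso.isIso_map_iff e η).2 h

theorem isIso_resD_uTo (T : CochainComplex X.Modules ℤ) : IsIso ((resD j).map (uTo j T)) := by
  haveI : IsIso ((resD j).map ((qD X).map (cxUnit j T))) := by
    haveI : IsIso ((resCx j).map (cxUnit j T)) := by
      haveI : ∀ n, IsIso (((resCx j).map (cxUnit j T)).f n) := fun n => isIso_restrict_unit j (T.X n)
      exact HomologicalComplex.Hom.isIso_of_components _
    exact (NatIso.isIso_map_iff (Functor.isoWhiskerRight (DerivedCategory.quotientCompQhIso X.Modules) (resD j) ≪≫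
      resDFac j) (cxUnit j T)).2 (map_isIso_of DerivedCategory.Q ‹IsIso ((resCx j).map (cxUnit j T))›)
  haveI := isIso_resD_uU j ((pullCxF j).obj T)
  rw [uTo, Functor.map_comp]
  infer_instance

/-- The transpose of `uTo` along an open immersion. -/
def dTo (T : CochainComplex X.Modules ℤ) : (resD j).obj ((qD X).obj T) ⟶ (qD U).obj ((pullCxF j).obj T) :=
  ((resDAdj j).homEquiv _ _).symm (uTo j T)

theorem isIso_dTo (T : CochainComplex X.Modules ℤ) : IsIso (dTo j T) := by
  haveI := isIso_resD_uTo j T
  rw [dTo, Adjunction.homEquiv_counit]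
  infer_instance

theorem unit_dTo (T : CochainComplex X.Modules ℤ) :
    (resDAdj j).unit.app _ ≫ (RR j).map (dTo j T) = uTo j T := by
  exact (((resDAdj j).homEquiv_unit _ _ _).symm.trans (((resDAdj j).homEquiv _ _).apply_symm_apply _))

theorem isIso_uTo_iff (T : CochainComplex X.Modules ℤ) :
    IsIso (uTo j T) ↔ IsIso ((resDAdj j).unit.app ((qD X).obj T)) := by
  haveI := isIso_dTo j T
  rw [← unit_dTo]
  exact ⟨fun h => @IsIso.of_isIso_comp_right _ _ _ _ _ _ _ inferInstance h, fun h => inferInstance⟩

end Open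

end GrothLib.BCFlat25
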